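import Cfsg.Agent.AschCrit.CommFour.Adapter

/-!
# Aschbacher's criterion, commutative case, Suzuki type: the hypotheses `Hyp` from `CaseHyp`
-/

set_option autoImplicit false

universe u

namespace Cfsg.Agent.AschCrit.CommFour.AdapterHyp

open Cfsg MulAction Subgroup
open Cfsg.Agent.TwoFusion.StronglyEmbeddedBasic Cfsg.Agent.AschCrit.Basic
open Cfsg.Agent.AschCrit.Basic.Setup Cfsg.Agent.AschCrit.Closed Cfsg.Agent.AschCrit.Descent
open Cfsg.Agent.AschCrit.NonIso Cfsg.Agent.AschCrit.BGroup Cfsg.Agent.AschCrit.InductLine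
open Cfsg.Agent.AschCrit.RankOneTypes Cfsg.Agent.LieRecognition
open Cfsg.Agent.AschCrit.CommTypes Cfsg.Agent.AschCrit.CommFrame Cfsg.Agent.AschCrit.CommCase
open Cfsg.Agent.AschCrit.CommFour.Adapter

theorem exists_sylTwo {G : Type*} [Group G] [Finite G] (H : Subgroup G) :
    ∃ P : Subgroup G, SylTwo H P := by
  have hf2 : Fact (Nat.Prime 2) := ⟨Nat.prime_two⟩
  obtain ⟨P₀⟩ : Nonempty (Sylow 2 H) := inferInstance
  refine ⟨(P₀ : Subgroup H).map H.subtype, map_subtype_le _, P₀.isPGroup'.map _, ?_⟩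
  have h2 : ((P₀ : Subgroup H).map H.subtype).subgroupOf H = (P₀ : Subgroup H) :=
    comap_map_eq_self_of_injective H.subtype_injective _
  rw [relIndex, h2]
  exact P₀.not_dvd_index

/-- the numbers of a `BGroup` are unique -/
theorem bgroup_unique {G Ω : Type*} [Group G] [Finite G] [MulAction G Ω] {z : G} {H : Subgroup G}
    {k i k' i' : ℕ} (hB : BGroup Ω z H k i) (hB' : BGroup Ω z H k' i') : k' = k ∧ i' = i := by
  obtain ⟨P, hP⟩ := exists_sylTwo H
  have h1 := hB.card_sylow P hP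
  have h2 := hB'.card_sylow P hP
  have h3 : k' = k := Nat.pow_right_injective le_rfl (h2.symm.trans h1)
  subst h3
  refine ⟨rfl, ?_⟩
  have h4 := hB.card_pts
  rw [hB'.card_pts] at h4
  exact pow_two_inj hB.two_le (Nat.succ.inj h4)

theorem card_at_of_forall {G Ω : Type*} [Group G] [Finite G] [MulAction G Ω] {z : G}
    (h : Setup G Ω z) (hf : ∀ g : G, (∀ a : Ω, g • a = a) → g = 1)
    (hcomm : ∀ a : Ω, ∀ d ∈ At z a, ∀ e ∈ At z a, Commute d e) {H : Subgroup G} {k i : ℕ}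
    (hB : BGroup Ω z H k i) (hall : ∀ c ∈ pts Ω z H, ∀ d ∈ At z c, d ∈ H) (a : Ω) :
    Nat.card (At z a) + 1 = 2 ^ k := by
  have hf2 : Fact (Nat.Prime 2) := ⟨Nat.prime_two⟩
  obtain ⟨P, hPs⟩ := exists_sylTwo H
  obtain ⟨c, hc, hPc, -⟩ := hB.trans_sylow P hPs
  set V := vGrp h hf hcomm c with hVdef
  have hV : ∀ x, x ∈ V ↔ x = 1 ∨ x ∈ At z c := fun x => mem_vGrp h hf hcomm
  have hVH : V ≤ H := by
    intro x hx
    rcases (hV x).mp hx with rfl | hx
    · exact one_mem _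
    · exact hall c hc x hx
  have hPV : P ≤ normalizer (V : Set G) := fun p hp => stab_le_normalizer hV (hPc p hp)
  have hQ : IsPGroup 2 (P ⊔ V : Subgroup G) := by
    rw [sup_comm]
    exact IsPGroup.to_sup_of_normal_left' (card_vGrp_pow h hV) hPs.2.1 hPV
  have hVP : V ≤ P := by
    have h1 := eq_of_sylTwo hPs (Q := P ⊔ V) le_sup_left (sup_le hPs.1 hVH) hQ
    rw [← h1]; exact le_sup_right
  have h2 : Nat.card {d : G // d ∈ P ∧ IsConj z d} = Nat.card (At z c) := by
    refine Nat.card_congr (Equiv.subtypeEquivRight (fun d => ?_))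
    constructor
    · rintro ⟨hdP, hd⟩
      exact ⟨hd, hPc d hdP⟩
    · intro hd
      exact ⟨hVP ((hV d).mpr (Or.inr hd)), hd.1⟩
  have h3 := hB.card_sylow P hPs
  rw [h2] at h3
  rw [h.card_at_eq a c]
  exact h3

theorem mod_three {k : ℕ} (hk : Odd k) : 2 ^ k % 3 = 2 := by
  obtain ⟨m, rfl⟩ := hk
  rw [pow_succ, pow_mul, Nat.mul_mod, Nat.pow_mod]
  norm_num

theorem not_three_dvd {q : ℕ} (hq : q % 3 = 2) : ¬ 3 ∣ q ^ 2 * (q - 1) * (q ^ 2 + 1) := by
  intro h1
  have h2 : q ^ 2 % 3 = 1 := by rw [Nat.pow_mod, hq]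
  rcases (Nat.prime_three.dvd_mul).mp h1 with h3 | h3
  · rcases (Nat.prime_three.dvd_mul).mp h3 with h4 | h4
    · omega
    · omega
  · omega

section

variable {G Ω : Type u} [Group G] [Finite G] [MulAction G Ω] {z : G} {k : ℕ}

theorem card_lt_of_ne_top {H : Subgroup G} (hH : H ≠ ⊤) : Nat.card H < Nat.card G := by
  have h1 := H.card_mul_index
  have h2 : 1 < H.index := by
    have h3 : H.index ≠ 1 := fun h4 => hH (index_eq_one.mp h4)
    have h4 : H.index ≠ 0 := index_ne_zero_of_finite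
    omega
  have h3 : 0 < Nat.card H := Nat.card_pos
  nlinarith

theorem exists_line_bad {i : ℕ} (hC : CaseHyp G Ω z k i) {t : G} (ht : Bad Ω t) :
    ∃ (X : Type u) (_ : Group X) (_ : MulAction X (pts Ω z (centralizer ({t} : Set G))))
      (φ : dGen z (centralizer ({t} : Set G)) →* X),
      Line (Ω := Ω) z (centralizer ({t} : Set G)) k i X φ := by
  have := hC.simple
  have h := hC.setup
  obtain ⟨-, c, -, -, hc, -⟩ := id ht
  have h3 : 1 < Nat.card (AtC z t c) := by
    have h1 := hC.card_atC t ht c hc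
    have h2 : 4 ≤ 2 ^ k := by
      calc 4 = 2 ^ 2 := by norm_num
        _ ≤ 2 ^ k := Nat.pow_le_pow_right (by norm_num) hC.two_le
    omega
  obtain ⟨k', i', hB, X, iX, iA, φ, hL⟩ := exists_line hC.noBadBelow hC.bender h
    (dSub_centralizer h ht h3 hC.comm) (card_lt_of_ne_top (centralizer_ne_top h ht.ne_one))
  obtain ⟨rfl, rfl⟩ := bgroup_unique (hC.bgroup t ht) hB
  exact ⟨X, iX, iA, φ, hL⟩

/-- two bad involutions with two common fixed points have the same fixed points -/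
theorem line (hC : CaseHyp G Ω z k 2) (hat : ∀ a : Ω, Nat.card (At z a) + 1 = 2 ^ k)
    (hodd : Odd k)
    (hcent : ∀ t : G, Bad Ω t → ∀ a : Ω, t • a = a → ∀ d ∈ At z a, Commute d t) {t t' : G}
    (ht : Bad Ω t) (ht' : Bad Ω t') {a b : Ω} (hab : a ≠ b) (hta : t • a = a) (htb : t • b = b)
    (hta' : t' • a = a) (htb' : t' • b = b) (c : Ω) (hc : t • c = c) : t' • c = c := by
  have := hC.simple
  have h := hC.setup
  have hfin := h.finite_points
  set H₀ : Subgroup G := closure (At z a ∪ At z b) with hH₀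
  have hle : ∀ u : G, Bad Ω u → u • a = a → u • b = b → H₀ ≤ centralizer {u} := by
    intro u hu hua hub
    rw [hH₀, closure_le]
    rintro d (hd | hd)
    · exact mem_centralizer_singleton_iff.mpr (hcent u hu a hua d hd).eq
    · exact mem_centralizer_singleton_iff.mpr (hcent u hu b hub d hd).eq
  have hsub : ∀ u : G, Bad Ω u → u • a = a → u • b = b → ∀ p ∈ pts Ω z H₀, u • p = p := by
    rintro u hu hua hub p ⟨d, hd, hdp⟩
    have h1 : Commute u d := by
      have h2 := mem_centralizer_singleton_iff.mp (hle u hu hua hub hd)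
      exact h2.symm
    exact h.fix_of_commute hdp.1 h1 hdp.2
  obtain ⟨da, hda⟩ := h.nonempty_At a
  obtain ⟨db, hdb⟩ := h.nonempty_At b
  have haP : a ∈ pts Ω z H₀ := ⟨da, subset_closure (Or.inl hda), hda⟩
  have hbP : b ∈ pts Ω z H₀ := ⟨db, subset_closure (Or.inr hdb), hdb⟩
  have hD : DSub Ω z H₀ := by
    obtain ⟨d, hd, e, he, hne, hde⟩ := exists_two h hC.nonIso a
    exact ⟨⟨a, b, hab, haP, hbP⟩, d, e, subset_closure (Or.inl hd), subset_closure (Or.inl he),
      hd.1, he.1, hde, hne⟩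
  have hne : H₀ ≠ ⊤ := by
    intro h1
    have h2 := hle t ht hta htb
    rw [h1, top_le_iff] at h2
    exact centralizer_ne_top h ht.ne_one h2
  obtain ⟨k₁, i₁, hB⟩ := bgroups hC.noBadBelow hC.bender h H₀ hne hD
  have htrans : ∀ p ∈ pts Ω z H₀, ∃ g ∈ H₀, g • a = p := by
    intro p hp
    by_cases hpa : p = a
    · exact ⟨1, one_mem _, by rw [one_smul, hpa]⟩
    · obtain ⟨g, hg, h1, -⟩ := hB.two_trans a b p a haP hbP hp haP hab hpa
      exact ⟨g, hg, h1⟩
  have hall : ∀ p ∈ pts Ω z H₀, ∀ d ∈ At z p, d ∈ H₀ := by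
    intro p hp d hd
    obtain ⟨g, hg, rfl⟩ := htrans p hp
    have h1 : g⁻¹ * d * g⁻¹⁻¹ ∈ At z (g⁻¹ • g • a) := conj_mem_At g⁻¹ hd
    rw [inv_smul_smul] at h1
    have h2 : g⁻¹ * d * g⁻¹⁻¹ ∈ H₀ := subset_closure (Or.inl h1)
    have h3 : d = g * (g⁻¹ * d * g⁻¹⁻¹) * g⁻¹ := by group
    rw [h3]
    exact mul_mem (mul_mem hg h2) (inv_mem hg)
  have hk₁ : k₁ = k :=
    Nat.pow_right_injective le_rfl ((card_at_of_forall h hC.faithful hC.comm hB hall a).symm.trans
      (hat a))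
  subst hk₁
  have hq1 : 1 < 2 ^ k₁ := Nat.one_lt_two_pow (by have := hB.two_le; omega)
  have hcard : (pts Ω z H₀ : Set Ω).ncard = (2 ^ k₁) ^ i₁ + 1 := hB.card_pts
  have hfix : {p : Ω | t • p = p}.ncard = (2 ^ k₁) ^ 2 + 1 := hC.card_fix t ht
  have hss : (pts Ω z H₀ : Set Ω) ⊆ {p : Ω | t • p = p} := hsub t ht hta htb
  have hi : i₁ ≤ 2 := by
    have h1 := Set.ncard_le_ncard hss (Set.toFinite _)
    rw [hcard, hfix] at h1
    exact (Nat.pow_le_pow_iff_right hq1).mp (by omega)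
  have hi1 := hB.one_le
  rcases (show i₁ = 1 ∨ i₁ = 2 by omega) with rfl | rfl
  · -- `3` divides `q + 1` but not the order of the Suzuki group
    exfalso
    obtain ⟨X, iX, iA, φ, hL⟩ := exists_line_bad hC ht
    have hXf := hL.finite
    have hXa := hL.faithful
    have hXs := hL.simple
    have hpts := mem_pts_centralizer_singleton h ht.mul_self
    have hle' : H₀ ≤ dGen z (centralizer ({t} : Set G)) := by
      rw [hH₀, closure_le]
      rintro d (hd | hd)
      · exact mem_dGen hd.1 (mem_centralizer_singleton_iff.mpr (hcent t ht a hta d hd).eq)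
      · exact mem_dGen hd.1 (mem_centralizer_singleton_iff.mpr (hcent t ht b htb d hd).eq)
    let χ : H₀ →* X := φ.comp (inclusion hle')
    have hχ : ∀ g : H₀, χ g = φ ⟨g, hle' g.2⟩ := fun g => rfl
    let a' : pts Ω z (centralizer ({t} : Set G)) := ⟨a, (hpts a).mpr hta⟩
    have h1 : (orbit χ.range a').ncard = 2 ^ k₁ + 1 := by
      rw [pow_one] at hcard
      rw [← hcard]
      have h2 : (pts Ω z H₀ : Set Ω) = Subtype.val '' (orbit χ.range a') := by
        ext p
        constructor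
        · intro hp
          obtain ⟨g, hg, hgp⟩ := htrans p hp
          refine ⟨⟨p, (hpts p).mpr (hss hp)⟩, ⟨⟨χ ⟨g, hg⟩, ⟨g, hg⟩, rfl⟩, ?_⟩, rfl⟩
          exact (map_smul_eq_iff hL ⟨g, hle' hg⟩ _ _).mpr hgp
        · rintro ⟨_, ⟨⟨_, g, rfl⟩, rfl⟩, rfl⟩
          have h3 : (((χ g • a' : pts Ω z (centralizer ({t} : Set G)))) : Ω) = (g : G) • a :=
            hL.compat ⟨g, hle' g.2⟩ a'
          have h4 : ((g : H₀) • (⟨a, haP⟩ : pts Ω z H₀) : pts Ω z H₀).1 = (g : G) • a := rfl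
          show ((χ g • a' : pts Ω z (centralizer ({t} : Set G))) : Ω) ∈ pts Ω z H₀
          rw [h3, ← h4]
          exact ((g : H₀) • (⟨a, haP⟩ : pts Ω z H₀) : pts Ω z H₀).2
      rw [h2, Set.ncard_image_of_injective _ Subtype.val_injective]
    have h2 : (2 ^ k₁ + 1) ∣ Nat.card X := by
      rw [← h1, ← index_stabilizer]
      exact (index_dvd_card _).trans (card_subgroup_dvd_card _)
    obtain ⟨s, Q, hS, -, hQc, hinv⟩ := hL.rank a'
    have h3 : Nat.card X = (2 ^ k₁) ^ 2 * (2 ^ k₁ - 1) * ((2 ^ k₁) ^ 2 + 1) := by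
      rw [card_eq hS, hQc, card_stab2_eq hS hL.four hinv hQc hC.two_le le_rfl]
    have h4 := mod_three hodd
    rw [h3] at h2
    refine not_three_dvd h4 (dvd_trans ?_ h2)
    omega
  · have h1 := Set.eq_of_subset_of_ncard_le hss (by rw [hcard, hfix]) (Set.toFinite _)
    have h2 : c ∈ (pts Ω z H₀ : Set Ω) := by rw [h1]; exact hc
    exact hsub t' ht' hta' htb' c h2

theorem hyp (hC : CaseHyp G Ω z k 2) (hat : ∀ a : Ω, Nat.card (At z a) + 1 = 2 ^ k)
    (hΩ : Nat.card Ω = (2 ^ k) ^ 3 * (2 ^ k * (2 ^ k - 1) + 1) + 1) : Hyp Ω z k := by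
  have := hC.simple
  have h := hC.setup
  have hcent : ∀ t : G, Bad Ω t → ∀ a : Ω, t • a = a → ∀ d ∈ At z a, Commute d t := by
    intro t ht a hta d hd
    have hV : ∀ x, x ∈ vGrp h hC.faithful hC.comm a ↔ x = 1 ∨ x ∈ At z a :=
      fun x => mem_vGrp h hC.faithful hC.comm
    exact commute_of_card h hV (by rw [card_V h hV, hat]) (hC.card_atC t ht a hta) d
      ((hV d).mpr (Or.inr hd))
  have hk : Odd k ∧ 3 ≤ k := by
    obtain ⟨t, ht⟩ := hC.exists_bad
    obtain ⟨X, iX, iA, φ, hL⟩ := exists_line_bad hC ht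
    have hXf := hL.finite
    have hXa := hL.faithful
    have hXs := hL.simple
    obtain ⟨-, c, -, -, hc, -⟩ := id ht
    obtain ⟨s, Q, hS, -, hQc, hinv⟩ :=
      hL.rank ⟨c, (mem_pts_centralizer_singleton h ht.mul_self c).mpr hc⟩
    obtain ⟨h1, h2, -, -⟩ := type_two' hS hL.four hinv hQc hC.two_le rfl
    exact ⟨h1, h2⟩
  refine
    { setup := h
      faith := hC.faithful
      comm := hC.comm
      two := hC.two_trans
      oddk := hk.1
      k3 := hk.2
      cardAt := hat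
      cent := hcent
      cardFix := hC.card_fix
      cardPts := ?_
      bad := hC.exists_bad
      line := fun t t' ht ht' a b hab hta htb hta' htb' c hc =>
        line hC hat hk.1 hcent ht ht' hab hta htb hta' htb' c hc
      sz := ?_ }
  · rw [hΩ, add_comm]
    congr 2
    obtain ⟨r, hr⟩ : ∃ r, 2 ^ k = r + 1 := ⟨2 ^ k - 1, by
      have : 0 < 2 ^ k := by positivity
      omega⟩
    rw [hr, Nat.add_sub_cancel, pow_two]
    have : (r + 1) * (r + 1) = (r + 1) * r + (r + 1) := by ring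
    rw [this, Nat.add_sub_cancel]
  · intro t ht
    obtain ⟨X, iX, iA, φ, hL⟩ := exists_line_bad hC ht
    exact szLine h hL hC.two_le (mem_pts_centralizer_singleton h ht.mul_self) (hcent t ht)

end

end Cfsg.Agent.AschCrit.CommFour.AdapterHyp
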