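import Cfsg.Agent.AschCrit.CommFour.Base
import Cfsg.Agent.AschCrit.CommCase
import Cfsg.Agent.AschCrit.InductLine
import Cfsg.Agent.AschCrit.RankOneNoncomm

/-!
# Aschbacher's criterion, commutative case, Suzuki type: the adapter

`szLine` : `SzLine Ω z t k` from `InductLine.Line`; `hyp` : the hypotheses `Hyp Ω z k` of case (C4)
from `CommCase.CaseHyp`.
-/

set_option autoImplicit false

universe u

namespace Cfsg.Agent.AschCrit.CommFour.Adapter

open Cfsg MulAction Subgroup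
open scoped commutatorElement
open Cfsg.Agent.TwoFusion.StronglyEmbeddedBasic Cfsg.Agent.AschCrit.Basic
open Cfsg.Agent.AschCrit.Basic.Setup Cfsg.Agent.AschCrit.Closed Cfsg.Agent.AschCrit.Descent
open Cfsg.Agent.AschCrit.NonIso Cfsg.Agent.AschCrit.BGroup Cfsg.Agent.AschCrit.InductLine
open Cfsg.Agent.AschCrit.RankOneTypes Cfsg.Agent.LieRecognition

section

variable {G Ω : Type u} [Group G] [MulAction G Ω] {z t : G} {k i : ℕ} {H : Subgroup G}
  {X : Type u} [Group X] [MulAction X (pts Ω z H)] {φ : dGen z H →* X}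

theorem map_eq_one_iff (hL : Line (Ω := Ω) z H k i X φ) (g : dGen z H) :
    φ g = 1 ↔ ∀ c : Ω, c ∈ pts Ω z H → (g : G) • c = c := by
  constructor
  · intro h1 c hc
    have h2 := hL.compat g ⟨c, hc⟩
    rw [h1, one_smul] at h2
    exact h2.symm
  · intro h1
    have := hL.faithful
    apply eq_of_smul_eq_smul (α := pts Ω z H)
    intro c
    rw [one_smul]
    exact Subtype.ext ((hL.compat g c).trans (h1 c c.2))

theorem map_smul_eq_iff (hL : Line (Ω := Ω) z H k i X φ) (g : dGen z H) {c d : Ω}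
    (hc : c ∈ pts Ω z H) (hd : d ∈ pts Ω z H) :
    φ g • (⟨c, hc⟩ : pts Ω z H) = ⟨d, hd⟩ ↔ (g : G) • c = d := by
  constructor
  · intro h1
    rw [← hL.compat g ⟨c, hc⟩, h1]
  · intro h1
    exact Subtype.ext ((hL.compat g ⟨c, hc⟩).trans h1)

/-- the two-point stabilisers -/
theorem two_point (hL : Line (Ω := Ω) z H k i X φ) (hk : 2 ≤ k) (hi : i ≤ 2) {a b : pts Ω z H}
    (hab : a ≠ b) : Nat.card ↥(stabilizer X a ⊓ stabilizer X b) = 2 ^ k - 1 ∧
      ∀ x ∈ stabilizer X a ⊓ stabilizer X b, ∀ y ∈ stabilizer X a ⊓ stabilizer X b,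
        x * y = y * x := by
  have := hL.finite
  have := hL.faithful
  have := hL.simple
  obtain ⟨s, Q, hS, -, hQc, hinv⟩ := hL.rank a
  obtain ⟨g, hga, hgb⟩ := RankOneBasic.exists_smul_pair hS (RankOneBasic.t_smul_ne hS).symm hab
  have h1 : ∀ x : X, x ∈ stabilizer X a ⊓ stabilizer X b ↔
      g⁻¹ * x * g ∈ stabilizer X a ⊓ stabilizer X (s • a) := by
    intro x
    rw [mem_inf, mem_inf, mem_stabilizer_iff, mem_stabilizer_iff, mem_stabilizer_iff,
      mem_stabilizer_iff, mul_smul, mul_smul, mul_smul, mul_smul, hga, hgb, inv_smul_eq_iff,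
      inv_smul_eq_iff, hga, hgb]
  have h2 : stabilizer X a ⊓ stabilizer X b =
      (stabilizer X a ⊓ stabilizer X (s • a)).map (MulAut.conj g).toMonoidHom := by
    ext x
    rw [h1]
    constructor
    · intro h3
      refine ⟨g⁻¹ * x * g, h3, ?_⟩
      show g * (g⁻¹ * x * g) * g⁻¹ = x
      group
    · rintro ⟨y, hy, rfl⟩
      have h4 : g⁻¹ * ((MulAut.conj g).toMonoidHom y) * g = y := by
        show g⁻¹ * (g * y * g⁻¹) * g = y
        group
      rw [h4]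
      exact hy
  have hcyc := isCyclic_of_le_two hS hL.four hinv hQc hk hi
  refine ⟨?_, ?_⟩
  · rw [h2, card_map_of_injective (MulAut.conj g).injective,
      card_stab2_eq hS hL.four hinv hQc hk hi]
  · intro x hx y hy
    have h3 : (⟨_, (h1 x).mp hx⟩ : ↥(stabilizer X a ⊓ stabilizer X (s • a))) *
        ⟨_, (h1 y).mp hy⟩ = ⟨_, (h1 y).mp hy⟩ * ⟨_, (h1 x).mp hx⟩ :=
      hcyc.commGroup.mul_comm _ _
    have h4 := congrArg Subtype.val h3
    simp only [Subgroup.coe_mul] at h4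
    have h5 : g⁻¹ * (x * y) * g = g⁻¹ * (y * x) * g := by
      calc g⁻¹ * (x * y) * g = g⁻¹ * x * g * (g⁻¹ * y * g) := by group
        _ = g⁻¹ * y * g * (g⁻¹ * x * g) := h4
        _ = g⁻¹ * (y * x) * g := by group
    exact mul_left_cancel (mul_right_cancel h5)

end

section

variable {G Ω : Type u} [Group G] [Finite G] [MulAction G Ω] {z t : G} {k : ℕ}
  {X : Type u} [Group X] [MulAction X (pts Ω z (centralizer ({t} : Set G)))]
  {φ : dGen z (centralizer ({t} : Set G)) →* X}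

omit [Finite G] in
theorem Lt_eq (z t : G) : Lt z t = dGen z (centralizer ({t} : Set G)) := by
  rw [Lt, dGen]
  congr 1
  ext d
  constructor
  · rintro ⟨h1, h2⟩
    exact ⟨h1, mem_centralizer_singleton_iff.mpr h2.eq⟩
  · rintro ⟨h1, h2⟩
    exact ⟨h1, mem_centralizer_singleton_iff.mp h2⟩

omit [Finite G] in
theorem isU (h : Setup G Ω z)
    (hL : Line (Ω := Ω) z (centralizer ({t} : Set G)) k 2 X φ) (hk : 2 ≤ k)
    (hpts : ∀ c : Ω, c ∈ pts Ω z (centralizer ({t} : Set G)) ↔ t • c = c)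
    (hcent : ∀ a : Ω, t • a = a → ∀ d ∈ At z a, Commute d t) {a : Ω} (ha : t • a = a) :
    ∃ U : Subgroup G, IsU z t a U := by
  have := hL.finite
  have := hL.faithful
  have := hL.simple
  have ha' := (hpts a).mpr ha
  obtain ⟨s, Q, hS, -, hQc, hinv⟩ := hL.rank ⟨a, ha'⟩
  have hLt := Lt_eq z t
  obtain ⟨hcen, -⟩ := S1130.result hS hL.four
  obtain ⟨-, -, hex4, -⟩ := type_two' hS hL.four hinv hQc hk rfl
  set U : Subgroup G := (Q.comap φ).map (dGen z (centralizer ({t} : Set G))).subtype with hU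
  have hmU : ∀ u : G, u ∈ U ↔ ∃ hu : u ∈ dGen z (centralizer ({t} : Set G)), φ ⟨u, hu⟩ ∈ Q := by
    intro u
    constructor
    · rintro ⟨y, hy, rfl⟩
      exact ⟨y.2, hy⟩
    · rintro ⟨hu, hq⟩
      exact ⟨⟨u, hu⟩, hq, rfl⟩
  have hker : ∀ g : dGen z (centralizer ({t} : Set G)), φ g = 1 ↔ (g : G) ∈ Kt Ω t := by
    intro g
    rw [map_eq_one_iff hL, mem_Kt]
    exact forall_congr' (fun c => by rw [hpts])
  -- the elements of `D_a`
  have hat : ∀ d ∈ At z a, ∃ hd : d ∈ dGen z (centralizer ({t} : Set G)), φ ⟨d, hd⟩ ∈ Q ∧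
      ∀ x ∈ Q, φ ⟨d, hd⟩ * x = x * φ ⟨d, hd⟩ := by
    intro d hd
    have hdc := hcent a ha d hd
    have hdG : d ∈ dGen z (centralizer ({t} : Set G)) :=
      mem_dGen hd.1 (mem_centralizer_singleton_iff.mpr hdc.eq)
    refine ⟨hdG, ?_⟩
    by_cases h1 : φ ⟨d, hdG⟩ = 1
    · rw [h1]
      exact ⟨Q.one_mem, fun x _ => by rw [one_mul, mul_one]⟩
    · refine hcen _ ⟨?_, h1, ?_⟩
      · exact mem_stabilizer_iff.mpr ((map_smul_eq_iff hL _ ha' ha').mpr hd.2)
      · rw [← map_mul]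
        have h2 : (⟨d, hdG⟩ : dGen z (centralizer ({t} : Set G))) * ⟨d, hdG⟩ = 1 :=
          Subtype.ext (h.mul_self hd.1)
        rw [h2, map_one]
  -- involutions of `Q`
  have hinvQ : ∀ x ∈ Q, x ≠ 1 → x * x = 1 →
      ∃ g : dGen z (centralizer ({t} : Set G)), (g : G) ∈ At z a ∧ φ g = x := by
    intro x hx hx1 hxx
    obtain ⟨g, hg, hgx⟩ := hL.invol x hx1 hxx
    refine ⟨g, ⟨hg, ?_⟩, hgx⟩
    rw [← map_smul_eq_iff hL g ha' ha', hgx]
    exact mem_stabilizer_iff.mp (hS.le hx)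
  refine ⟨U, ?_⟩
  refine
    { le := ?_
      ker_le := ?_
      fix := ?_
      normal := ?_
      trans := ?_
      free := ?_
      at_le := ?_
      cent := ?_
      sq := ?_
      of_sq := ?_
      noncomm := ?_ }
  · intro u hu
    rw [hLt]
    exact ((hmU u).mp hu).1
  · rintro g ⟨hg1, hg2⟩
    rw [SetLike.mem_coe, hLt] at hg1
    exact (hmU g).mpr ⟨hg1, by rw [(hker ⟨g, hg1⟩).mpr hg2]; exact Q.one_mem⟩
  · intro u hu
    obtain ⟨hu1, hu2⟩ := (hmU u).mp hu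
    exact (map_smul_eq_iff hL ⟨u, hu1⟩ ha' ha').mp (mem_stabilizer_iff.mp (hS.le hu2))
  · intro g hg hga u hu
    rw [hLt] at hg
    obtain ⟨hu1, hu2⟩ := (hmU u).mp hu
    refine (hmU _).mpr ⟨mul_mem (mul_mem hg hu1) (inv_mem hg), ?_⟩
    have h1 := hS.conj_mem (φ ⟨g, hg⟩)
      (mem_stabilizer_iff.mpr ((map_smul_eq_iff hL ⟨g, hg⟩ ha' ha').mpr hga)) _ hu2
    rw [← map_mul, ← map_inv, ← map_mul] at h1
    exact h1
  · intro b c hb hc hba hca
    obtain ⟨x, hx, hxc⟩ := RankOneBasic.exists_smul_eq_of_ne hS (b := ⟨b, (hpts b).mpr hb⟩)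
      (c := ⟨c, (hpts c).mpr hc⟩) (fun hh => hba (congrArg Subtype.val hh))
      (fun hh => hca (congrArg Subtype.val hh))
    obtain ⟨g, rfl⟩ := hL.surj x
    exact ⟨g, (hmU _).mpr ⟨g.2, hx⟩, (map_smul_eq_iff hL g _ _).mp hxc⟩
  · intro u hu b hb hba hub
    obtain ⟨hu1, hu2⟩ := (hmU u).mp hu
    refine (hker ⟨u, hu1⟩).mp ?_
    exact RankOneBasic.eq_one_of_smul_eq hS hu2 (c := ⟨b, (hpts b).mpr hb⟩)
      (fun hh => hba (congrArg Subtype.val hh)) ((map_smul_eq_iff hL ⟨u, hu1⟩ _ _).mpr hub)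
  · intro d hd
    obtain ⟨h1, h2, -⟩ := hat d hd
    exact (hmU d).mpr ⟨h1, h2⟩
  · intro u hu d hd
    obtain ⟨h1, h2, h3⟩ := hat d hd
    obtain ⟨hu1, hu2⟩ := (hmU u).mp hu
    have h4 : φ ⁅(⟨u, hu1⟩ : dGen z (centralizer ({t} : Set G))), ⟨d, h1⟩⁆ = 1 := by
      rw [map_commutatorElement, commutatorElement_eq_one_iff_mul_comm]
      exact (h3 _ hu2).symm
    exact (hker _).mp h4
  · intro u hu
    obtain ⟨hu1, hu2⟩ := (hmU u).mp hu
    by_cases h1 : φ ⟨u, hu1⟩ * φ ⟨u, hu1⟩ = 1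
    · refine ⟨1, Or.inl rfl, ?_⟩
      rw [mul_one]
      refine (hker (⟨u, hu1⟩ * ⟨u, hu1⟩)).mp ?_
      rw [map_mul, h1]
    · obtain ⟨g, hg, hgx⟩ := hinvQ _ (Q.mul_mem hu2 hu2) h1 (hex4 _ hu2)
      refine ⟨g, Or.inr hg, ?_⟩
      refine (hker (⟨u, hu1⟩ * ⟨u, hu1⟩ * g)).mp ?_
      rw [map_mul, map_mul, hgx]
      exact hex4 _ hu2
  · intro u hu huu
    obtain ⟨hu1, hu2⟩ := (hmU u).mp hu
    have h2 : φ ⟨u, hu1⟩ * φ ⟨u, hu1⟩ = 1 := by
      rw [← map_mul]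
      exact (hker (⟨u, hu1⟩ * ⟨u, hu1⟩)).mpr huu
    by_cases h1 : φ ⟨u, hu1⟩ = 1
    · refine ⟨1, Or.inl rfl, ?_⟩
      rw [mul_one]
      exact (hker ⟨u, hu1⟩).mp h1
    · obtain ⟨g, hg, hgx⟩ := hinvQ _ hu2 h1 h2
      refine ⟨g, Or.inr hg, ?_⟩
      refine (hker (⟨u, hu1⟩ * g)).mp ?_
      rw [map_mul, hgx, h2]
  · obtain ⟨x, hx, y, hy, hxy⟩ :=
      RankOneNoncomm.exists_noncomm hS hL.four hk hinv hQc rfl
    obtain ⟨g, rfl⟩ := hL.surj x
    obtain ⟨g', rfl⟩ := hL.surj y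
    refine ⟨g, (hmU _).mpr ⟨g.2, hx⟩, g', (hmU _).mpr ⟨g'.2, hy⟩, ?_⟩
    intro h1
    apply hxy
    have h2 := (hker ⁅g, g'⁆).mpr h1
    rw [map_commutatorElement, commutatorElement_eq_one_iff_mul_comm] at h2
    exact h2

theorem szLine (h : Setup G Ω z)
    (hL : Line (Ω := Ω) z (centralizer ({t} : Set G)) k 2 X φ) (hk : 2 ≤ k)
    (hpts : ∀ c : Ω, c ∈ pts Ω z (centralizer ({t} : Set G)) ↔ t • c = c)
    (hcent : ∀ a : Ω, t • a = a → ∀ d ∈ At z a, Commute d t) : SzLine Ω z t k := by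
  have := hL.finite
  have := hL.faithful
  have := hL.simple
  have hLt := Lt_eq z t
  have hker : ∀ g : dGen z (centralizer ({t} : Set G)), φ g = 1 ↔ (g : G) ∈ Kt Ω t := by
    intro g
    rw [map_eq_one_iff hL, mem_Kt]
    exact forall_congr' (fun c => by rw [hpts])
  refine
    { two := ?_
      three := ?_
      card_torus := ?_
      comm_torus := ?_
      unip := fun a ha => isU h hL hk hpts hcent ha }
  · intro a b c d ha hb hc hd hab hcd
    obtain ⟨s, Q, hS, -⟩ := hL.rank ⟨a, (hpts a).mpr ha⟩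
    obtain ⟨x, hx1, hx2⟩ := RankOneBasic.exists_smul_pair hS (b₁ := ⟨a, (hpts a).mpr ha⟩)
      (b₂ := ⟨b, (hpts b).mpr hb⟩) (c₁ := ⟨c, (hpts c).mpr hc⟩) (c₂ := ⟨d, (hpts d).mpr hd⟩)
      (fun hh => hab (congrArg Subtype.val hh)) (fun hh => hcd (congrArg Subtype.val hh))
    obtain ⟨g, rfl⟩ := hL.surj x
    exact ⟨g, by rw [hLt]; exact g.2, (map_smul_eq_iff hL g _ _).mp hx1,
      (map_smul_eq_iff hL g _ _).mp hx2⟩
  · intro g hg a b c ha hb hc hab hbc hac hga hgb hgc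
    rw [hLt] at hg
    obtain ⟨s, Q, hS, -, hQc, hinv⟩ := hL.rank ⟨a, (hpts a).mpr ha⟩
    refine (hker ⟨g, hg⟩).mp ?_
    exact eq_one_of_le_two hS hL.four hinv hQc hk le_rfl
      (b := ⟨a, (hpts a).mpr ha⟩) (c := ⟨b, (hpts b).mpr hb⟩) (d := ⟨c, (hpts c).mpr hc⟩)
      (fun hh => hab (congrArg Subtype.val hh)) (fun hh => hac (congrArg Subtype.val hh))
      (fun hh => hbc (congrArg Subtype.val hh)) ((map_smul_eq_iff hL ⟨g, hg⟩ _ _).mpr hga)
      ((map_smul_eq_iff hL ⟨g, hg⟩ _ _).mpr hgb) ((map_smul_eq_iff hL ⟨g, hg⟩ _ _).mpr hgc)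
  · intro a b ha hb hab
    have hab' : (⟨a, (hpts a).mpr ha⟩ : pts Ω z (centralizer ({t} : Set G))) ≠
        ⟨b, (hpts b).mpr hb⟩ := fun hh => hab (congrArg Subtype.val hh)
    have hle : Tt z t a b ≤ dGen z (centralizer ({t} : Set G)) := by
      rw [← hLt]
      exact inf_le_left
    let χ : Tt z t a b →* X := φ.comp (inclusion hle)
    have hχ : ∀ g : Tt z t a b, χ g = φ ⟨g, hle g.2⟩ := fun g => rfl
    have h1 : χ.range = stabilizer X (⟨a, (hpts a).mpr ha⟩ : pts Ω z (centralizer ({t} : Set G))) ⊓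
        stabilizer X (⟨b, (hpts b).mpr hb⟩ : pts Ω z (centralizer ({t} : Set G))) := by
      ext x
      constructor
      · rintro ⟨g, rfl⟩
        rw [hχ, mem_inf, mem_stabilizer_iff, mem_stabilizer_iff,
          map_smul_eq_iff hL, map_smul_eq_iff hL]
        exact g.2.2
      · intro hx
        obtain ⟨g, rfl⟩ := hL.surj x
        rw [mem_inf, mem_stabilizer_iff, mem_stabilizer_iff,
          map_smul_eq_iff hL, map_smul_eq_iff hL] at hx
        exact ⟨⟨g, by rw [SetLike.mem_coe, hLt]; exact g.2, hx⟩, rfl⟩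
    have h2 : Nat.card χ.ker = Nat.card (Zt Ω z t) := by
      refine Nat.card_congr
        { toFun := fun g => ⟨g.1.1, g.1.2.1, ?_⟩
          invFun := fun g => ⟨⟨g.1, g.2.1, ?_⟩, ?_⟩
          left_inv := fun g => rfl
          right_inv := fun g => rfl }
      · exact (hker ⟨g.1.1, hle g.1.2⟩).mp g.2
      · exact ⟨g.2.2 a ha, g.2.2 b hb⟩
      · refine (hker ⟨g.1, ?_⟩).mpr g.2.2
    have h3 := χ.ker.card_mul_index
    rw [index_ker, h1, h2, (two_point hL hk le_rfl hab').1] at h3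
    rw [← h3, mul_comm]
  · intro a b ha hb hab g hg g' hg'
    have hab' : (⟨a, (hpts a).mpr ha⟩ : pts Ω z (centralizer ({t} : Set G))) ≠
        ⟨b, (hpts b).mpr hb⟩ := fun hh => hab (congrArg Subtype.val hh)
    have hm : ∀ x : G, x ∈ Tt z t a b → ∃ hx : x ∈ dGen z (centralizer ({t} : Set G)),
        φ ⟨x, hx⟩ ∈ stabilizer X (⟨a, (hpts a).mpr ha⟩ : pts Ω z (centralizer ({t} : Set G))) ⊓
        stabilizer X (⟨b, (hpts b).mpr hb⟩ : pts Ω z (centralizer ({t} : Set G))) := by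
      intro x hx
      have hx1 : x ∈ dGen z (centralizer ({t} : Set G)) := by
        rw [← hLt]
        exact hx.1
      refine ⟨hx1, ?_⟩
      rw [mem_inf, mem_stabilizer_iff, mem_stabilizer_iff,
        map_smul_eq_iff hL, map_smul_eq_iff hL]
      exact hx.2
    obtain ⟨h1, h2⟩ := hm g hg
    obtain ⟨h3, h4⟩ := hm g' hg'
    have h5 : φ ⁅(⟨g, h1⟩ : dGen z (centralizer ({t} : Set G))), ⟨g', h3⟩⁆ = 1 := by
      rw [map_commutatorElement, commutatorElement_eq_one_iff_mul_comm]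
      exact (two_point hL hk le_rfl hab').2 _ h2 _ h4
    exact (hker _).mp h5

end

end Cfsg.Agent.AschCrit.CommFour.Adapter
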