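import Mathlib
import Cfsg.Agent.Transfer.Extraspecial

/-!
# Odd centre of a perfect group

`odd_card_of_central` : let `L` be a perfect group, `Z` central, `U` of odd index, `V × Z ≤ U` with
`|U : V Z| = |V| = 2 ^ k`, `k` odd, `V` central in `U`, `U' ≤ V Z`, and suppose that the elements of
`U` outside `V Z` are conjugate modulo `V Z` under elements of `L` normalising `U` and `V`.  Then `Z`
has odd order.
-/

set_option autoImplicit false

namespace Cfsg.Agent.AschCrit.CommFour.Odd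

open Subgroup
open scoped commutatorElement

/-- A group of order `2 ^ (k + 1)`, `k` odd, with a central subgroup `Z` of order 2 containing all
commutators, such that the elements outside `Z` are fused modulo `Z` by automorphisms, is abelian. -/
theorem comm_of_odd {P : Type*} [Group P] [Finite P] {k : ℕ} (hk : Odd k)
    (hP : Nat.card P = 2 ^ (k + 1)) (Z : Subgroup P) (hZc : Z ≤ center P) (hZ : Nat.card Z = 2)
    (hcomm : ∀ a b : P, ⁅a, b⁆ ∈ Z)
    (hH : ∀ x y : P, x ∉ Z → y ∉ Z → ∃ φ : P ≃* P, φ x * y⁻¹ ∈ Z) (a b : P) : a * b = b * a := by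
  by_contra hab
  have : Fact (Nat.Prime 2) := ⟨Nat.prime_two⟩
  have hcen : center P = Z := by
    refine le_antisymm ?_ hZc
    intro x hx
    by_contra hxZ
    apply hab
    have hall : ∀ y : P, y ∈ center P := by
      intro y
      by_cases hy : y ∈ Z
      · exact hZc hy
      · obtain ⟨φ, hφ⟩ := hH x y hxZ hy
        have h1 : φ x ∈ center P := by
          rw [mem_center_iff] at hx ⊢
          intro g
          have := congrArg φ (hx (φ.symm g))
          simpa using this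
        have h2 : y = (φ x * y⁻¹)⁻¹ * φ x := by group
        rw [h2]
        exact mul_mem (inv_mem (hZc hφ)) h1
    exact (mem_center_iff.mp (hall b) a)
  obtain ⟨n, hn⟩ := Cfsg.Agent.Transfer.Extraspecial.exists_index_center_eq (p := 2) (Nat.card P)
    (P := P) rfl (fun a b => hZc (hcomm a b)) (by
      rw [← hZ]
      apply Subgroup.card_dvd_of_le
      rw [commutator_def, Subgroup.commutator_le]
      intro g₁ _ g₂ _
      exact hcomm g₁ g₂)
  have h1 := (center P).card_mul_index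
  rw [hn, hcen, hZ, hP] at h1
  have h2 : 2 ^ (2 * n + 1) = 2 ^ (k + 1) := by rw [← h1]; ring
  have h3 := Nat.pow_right_injective (le_refl 2) h2
  obtain ⟨j, hj⟩ := hk
  omega

/-- A finite commutative group of even order has a subgroup of index 2. -/
theorem exists_index_two {Z : Type*} [Group Z] [Finite Z] (hc : ∀ a b : Z, a * b = b * a)
    (he : 2 ∣ Nat.card Z) : ∃ N : Subgroup Z, N.index = 2 := by
  classical
  let _ : CommGroup Z := { ‹Group Z› with mul_comm := hc }
  let sq : Z →* Z := powMonoidHom 2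
  have hne : sq.range ≠ ⊤ := by
    intro h
    have hsurj : Function.Surjective sq := MonoidHom.range_eq_top.mp h
    have hinj : Function.Injective sq := Finite.injective_iff_surjective.mpr hsurj
    have : Fact (Nat.Prime 2) := ⟨Nat.prime_two⟩
    obtain ⟨x, hx⟩ := exists_prime_orderOf_dvd_card' 2 he
    have h1 : sq x = sq 1 := by
      show x ^ 2 = 1 ^ 2
      rw [one_pow, ← hx, pow_orderOf_eq_one]
    have h2 := hinj h1
    rw [h2, orderOf_one] at hx
    omega
  obtain ⟨N, hN, hle⟩ := (eq_top_or_exists_le_coatom sq.range).resolve_left hne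
  refine ⟨N, ?_⟩
  obtain ⟨x, hx⟩ : ∃ x, x ∉ N := by
    by_contra hcon
    push Not at hcon
    exact hN.1 (eq_top_iff.mpr fun x _ => hcon x)
  rw [Subgroup.index_eq_two_iff]
  refine ⟨x, fun y => ?_⟩
  have hsq : ∀ y : Z, y * y ∈ N := fun y => hle ⟨y, by show y ^ 2 = y * y; rw [pow_two]⟩
  have htop : N ⊔ zpowers x = ⊤ := by
    apply hN.2
    refine lt_of_le_of_ne le_sup_left ?_
    intro h
    apply hx
    rw [h]
    exact mem_sup_right (mem_zpowers x)
  have hy : y ∈ N ⊔ zpowers x := by rw [htop]; trivial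
  rw [mem_sup] at hy
  obtain ⟨n, hn, w, hw, rfl⟩ := hy
  obtain ⟨j, rfl⟩ := mem_zpowers_iff.mp hw
  have hpow : ∀ i : ℤ, x ^ (2 * i) ∈ N := by
    intro i
    rw [zpow_mul]
    apply zpow_mem
    have := hsq x
    rwa [← zpow_two] at this
  rcases Int.even_or_odd' j with ⟨i, hi | hi⟩
  · have h1 : n * x ^ j ∈ N := by rw [hi]; exact mul_mem hn (hpow i)
    have h2 : n * x ^ j * x ∉ N := fun h => hx ((N.mul_mem_cancel_left h1).mp h)
    exact Or.inr ⟨h1, h2⟩
  · have h1 : x ^ j = x ^ (2 * i) * x := by rw [hi, zpow_add, zpow_one]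
    have h2 : n * x ^ j ∉ N := by
      rw [h1, ← mul_assoc]
      exact fun h => hx ((N.mul_mem_cancel_left (mul_mem hn (hpow i))).mp h)
    have h3 : n * x ^ j * x ∈ N := by
      rw [h1]
      have : n * (x ^ (2 * i) * x) * x = (n * x ^ (2 * i)) * (x * x) := by group
      rw [this]
      exact mul_mem (mul_mem hn (hpow i)) (hsq x)
    exact Or.inl ⟨h3, h2⟩

theorem card_mul_relIndex' {L : Type*} [Group L] {H K : Subgroup L} (h : H ≤ K) :
    Nat.card H * H.relIndex K = Nat.card K := by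
  rw [← relIndex_bot_left, ← relIndex_bot_left (H := K)]
  exact relIndex_mul_relIndex ⊥ H K bot_le h

/-- `card (V ⊔ Z) = card V * card Z` -/
theorem card_sup_eq {L : Type*} [Group L] {V Z : Subgroup L} (hn : Z.Normal)
    (hZV : Z ⊓ V = ⊥) : Nat.card (V ⊔ Z : Subgroup L) = Nat.card V * Nat.card Z := by
  rw [← card_mul_relIndex' (le_sup_right : Z ≤ V ⊔ Z), relIndex_sup_right, ← inf_relIndex_right,
    hZV, relIndex_bot_left, mul_comm]

theorem odd_card_of_central {L : Type*} [Group L] [Finite L] (hperf : commutator L = ⊤)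
    {Z U V : Subgroup L} (hZ : Z ≤ center L) (hZU : Z ≤ U) (hVU : V ≤ U) (hZV : Z ⊓ V = ⊥)
    (hU : Odd U.index) {k : ℕ} (hk : Odd k) (hcU : Nat.card U = (2 ^ k) ^ 2 * Nat.card Z)
    (hcV : Nat.card V = 2 ^ k) (hVc : ∀ u ∈ U, ∀ v ∈ V, u * v = v * u)
    (hcomm : ∀ a ∈ U, ∀ b ∈ U, ⁅a, b⁆ ∈ V ⊔ Z)
    (hH : ∀ x ∈ U, ∀ y ∈ U, x ∉ V ⊔ Z → y ∉ V ⊔ Z → ∃ h : L, (∀ u, h * u * h⁻¹ ∈ U ↔ u ∈ U) ∧
      (∀ v, h * v * h⁻¹ ∈ V ↔ v ∈ V) ∧ h * x * h⁻¹ * y⁻¹ ∈ V ⊔ Z) : Odd (Nat.card Z) := by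
  classical
  by_contra hodd
  rw [Nat.not_odd_iff_even, even_iff_two_dvd] at hodd
  have hZcomm : ∀ x ∈ Z, ∀ g : L, g * x = x * g := fun x hx g => mem_center_iff.mp (hZ hx) g
  obtain ⟨N', hN'⟩ := exists_index_two (Z := Z)
    (fun a b => Subtype.ext (hZcomm b b.2 a)) hodd
  obtain ⟨N, hN⟩ : ∃ N : Subgroup L, N = N'.map Z.subtype := ⟨_, rfl⟩
  have hNZ : N ≤ Z := hN ▸ map_subtype_le _
  have hNi : N.relIndex Z = 2 := by
    have : N.subgroupOf Z = N' := by
      rw [hN]; exact comap_map_eq_self_of_injective Z.subtype_injective N'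
    rw [relIndex, this, hN']
  have hZn : Z.Normal := ⟨fun n hn g => by
    rw [hZcomm n hn g]; simpa using hn⟩
  have hNn : N.Normal := ⟨fun n hn g => by
    rw [hZcomm n (hNZ hn) g]; simpa using hn⟩
  have hNV : N ⊓ V = ⊥ := by
    rw [eq_bot_iff, ← hZV]; exact inf_le_inf_right V hNZ
  have hNU : N ≤ U := hNZ.trans hZU
  obtain ⟨W, hW⟩ : ∃ W : Subgroup L, W = V ⊔ N := ⟨_, rfl⟩
  have hWU : W ≤ U := hW ▸ sup_le hVU hNU
  have hWVZ : W ≤ V ⊔ Z := hW ▸ sup_le_sup_left hNZ V
  have hVZU : V ⊔ Z ≤ U := sup_le hVU hZU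
  have hcN := card_mul_relIndex' hNZ
  rw [hNi] at hcN
  have hcW : Nat.card W = 2 ^ k * Nat.card N := by rw [hW, card_sup_eq hNn hNV, hcV]
  have hWi : W.relIndex U = 2 ^ (k + 1) := by
    have h1 := card_mul_relIndex' hWU
    rw [hcW, hcU, ← hcN] at h1
    have h2 : 2 ^ k * Nat.card N * W.relIndex U = 2 ^ k * Nat.card N * 2 ^ (k + 1) := by
      rw [h1]; ring
    exact Nat.eq_of_mul_eq_mul_left (Nat.mul_pos (by positivity) Nat.card_pos) h2
  -- `W` is central in `U`
  have hWc : ∀ u ∈ U, ∀ w ∈ W, u * w = w * u := by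
    intro u hu w hw
    rw [hW, mem_sup_of_normal_right] at hw
    obtain ⟨v, hv, n, hn, rfl⟩ := hw
    rw [← mul_assoc, hVc u hu v hv, mul_assoc, hZcomm n (hNZ hn) u, mul_assoc]
  have hWZ : ∀ x ∈ W, x ∈ Z → x ∈ N := by
    intro x hx hxZ
    rw [hW, mem_sup_of_normal_right] at hx
    obtain ⟨v, hv, n, hn, rfl⟩ := hx
    have h1 : v ∈ Z ⊓ V := ⟨(Z.mul_mem_cancel_right (hNZ hn)).mp hxZ, hv⟩
    rw [hZV, mem_bot] at h1
    rw [h1, one_mul]; exact hn
  have hWn : (W.subgroupOf U).Normal := ⟨fun n hn g => by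
    rw [mem_subgroupOf] at hn ⊢
    have h1 := hWc g g.2 n hn
    have h2 : ((g * n * g⁻¹ : U) : L) = n := by
      push_cast
      rw [h1]; group
    rw [h2]; exact hn⟩
  let π : U →* U ⧸ W.subgroupOf U := QuotientGroup.mk' (W.subgroupOf U)
  have hπ : Function.Surjective π := QuotientGroup.mk'_surjective _
  have hker : π.ker = W.subgroupOf U := QuotientGroup.ker_mk' _
  have hπ1 : ∀ x : U, π x = 1 ↔ (x : L) ∈ W := by
    intro x
    rw [← MonoidHom.mem_ker, hker, mem_subgroupOf]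
  have hcP : Nat.card (U ⧸ W.subgroupOf U) = 2 ^ (k + 1) := hWi
  let Zh : Subgroup (U ⧸ W.subgroupOf U) := (Z.subgroupOf U).map π
  have hcZh : Nat.card Zh = 2 := by
    show Nat.card ((Z.subgroupOf U).map π) = 2
    rw [← relIndex_ker, hker, relIndex_subgroupOf hZU, ← hNi]
    have h1 : W ⊓ Z = N := le_antisymm (fun x hx => hWZ x hx.1 hx.2)
      (le_inf (hW ▸ le_sup_right) hNZ)
    rw [← inf_relIndex_right, h1]
  have hZh : ∀ x : U, π x ∈ Zh ↔ (x : L) ∈ V ⊔ Z := by
    intro x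
    constructor
    · rintro ⟨ζ, hζ, hζx⟩
      have h1 : π (ζ⁻¹ * x) = 1 := by rw [map_mul, map_inv, hζx, inv_mul_cancel]
      rw [hπ1] at h1
      have h2 : (x : L) = ζ * (ζ⁻¹ * x : U) := by push_cast; group
      rw [h2]
      exact mul_mem (mem_sup_right (mem_subgroupOf.mp hζ)) (hWVZ h1)
    · intro hx
      rw [mem_sup_of_normal_right] at hx
      obtain ⟨v, hv, ζ, hζ, hx⟩ := hx
      have h1 : x = ⟨v, hVU hv⟩ * ⟨ζ, hZU hζ⟩ := Subtype.ext hx.symm
      have h2 : π ⟨v, hVU hv⟩ = 1 := by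
        rw [hπ1, hW]; exact mem_sup_left hv
      rw [h1, map_mul, h2, one_mul]
      exact ⟨_, mem_subgroupOf.mpr hζ, rfl⟩
  have hcommP : ∀ a b : U ⧸ W.subgroupOf U, a * b = b * a := by
    refine comm_of_odd hk hcP Zh ?_ hcZh ?_ ?_
    · rintro _ ⟨ζ, hζ, rfl⟩
      rw [mem_center_iff]
      intro g
      obtain ⟨u, rfl⟩ := hπ g
      rw [← map_mul, ← map_mul]
      congr 1
      exact Subtype.ext (hZcomm ζ (mem_subgroupOf.mp hζ) u)
    · intro a b
      obtain ⟨a, rfl⟩ := hπ a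
      obtain ⟨b, rfl⟩ := hπ b
      rw [← map_commutatorElement, hZh]
      exact hcomm a a.2 b b.2
    · intro x y hx hy
      obtain ⟨x, rfl⟩ := hπ x
      obtain ⟨y, rfl⟩ := hπ y
      rw [hZh] at hx hy
      obtain ⟨h, hU', hV', hxy⟩ := hH x x.2 y y.2 hx hy
      have hW' : ∀ w, h * w * h⁻¹ ∈ W ↔ w ∈ W := by
        intro w
        constructor
        · intro hw
          rw [hW, mem_sup_of_normal_right] at hw ⊢
          obtain ⟨v, hv, n, hn, hvn⟩ := hw
          refine ⟨h⁻¹ * v * h, ?_, n, hn, ?_⟩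
          · rw [← hV']
            convert hv using 1
            group
          · have h1 := hZcomm n (hNZ hn) h⁻¹
            calc h⁻¹ * v * h * n = h⁻¹ * v * (h * n) := by group
              _ = h⁻¹ * v * (n * h) := by rw [hZcomm n (hNZ hn) h]
              _ = h⁻¹ * (v * n) * h := by group
              _ = w := by rw [hvn]; group
        · intro hw
          rw [hW, mem_sup_of_normal_right] at hw ⊢
          obtain ⟨v, hv, n, hn, rfl⟩ := hw
          refine ⟨h * v * h⁻¹, (hV' v).mpr hv, n, hn, ?_⟩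
          calc h * v * h⁻¹ * n = h * v * (h⁻¹ * n) := by group
            _ = h * v * (n * h⁻¹) := by rw [hZcomm n (hNZ hn) h⁻¹]
            _ = _ := by group
      have hUi : ∀ u ∈ U, h⁻¹ * u * h ∈ U := by
        intro u hu
        rw [← hU']
        convert hu using 1
        group
      let e : U ≃* U :=
        { toFun := fun u => ⟨h * u * h⁻¹, (hU' u).mpr u.2⟩
          invFun := fun u => ⟨h⁻¹ * u * h, hUi u u.2⟩
          left_inv := fun u => Subtype.ext (by simp [mul_assoc])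
          right_inv := fun u => Subtype.ext (by simp [mul_assoc])
          map_mul' := fun u v => Subtype.ext (by simp [mul_assoc]) }
      have he : (W.subgroupOf U).map e.toMonoidHom = W.subgroupOf U := by
        ext w
        rw [mem_map_equiv, mem_subgroupOf, mem_subgroupOf, ← hW']
        have : h * ((e.symm w : U) : L) * h⁻¹ = w := congrArg Subtype.val (e.apply_symm_apply w)
        rw [this]
      refine ⟨QuotientGroup.congr _ _ e he, ?_⟩
      have h1 : QuotientGroup.congr _ _ e he (π x) = π (e x) := rfl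
      rw [h1, ← map_inv, ← map_mul, hZh]
      exact hxy
  -- transfer
  let _ : CommGroup (U ⧸ W.subgroupOf U) :=
    { (inferInstance : Group (U ⧸ W.subgroupOf U)) with mul_comm := hcommP }
  obtain ⟨ζ, hζ, hζN⟩ : ∃ ζ ∈ Z, ζ ∉ N := by
    by_contra hcon
    push Not at hcon
    have : N.relIndex Z = 1 := relIndex_eq_one.mpr hcon
    omega
  have hkey : ∀ (k : ℕ) (g₀ : L), g₀⁻¹ * ζ ^ k * g₀ ∈ U → g₀⁻¹ * ζ ^ k * g₀ = ζ ^ k := by
    intro k g₀ _
    rw [hZcomm (ζ ^ k) (pow_mem hζ k) g₀⁻¹]; group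
  have htr := MonoidHom.transfer_eq_pow (H := U) (A := U ⧸ W.subgroupOf U) π ζ hkey
  have h1 : MonoidHom.transfer (H := U) (A := U ⧸ W.subgroupOf U) π ζ = 1 := by
    have h2 := Abelianization.commutator_subset_ker
      (MonoidHom.transfer (H := U) (A := U ⧸ W.subgroupOf U) π)
    rw [hperf] at h2
    exact h2 (mem_top ζ)
  rw [htr] at h1
  have h2 : ζ ^ U.index ∈ W := (hπ1 _).mp h1
  have h3 : ζ ^ U.index ∈ N := hWZ _ h2 (pow_mem hζ _)
  apply hζN
  obtain ⟨j, hj⟩ := hU
  have hsq : ζ ^ 2 ∈ N := by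
    have h4 : N'.index = 2 := hN'
    have h5 := Subgroup.sq_mem_of_index_two h4 ⟨ζ, hζ⟩
    rw [hN]
    exact ⟨_, h5, rfl⟩
  rw [hj, pow_succ, pow_mul] at h3
  exact (N.mul_mem_cancel_left (pow_mem hsq j)).mp h3

end Cfsg.Agent.AschCrit.CommFour.Odd
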