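import Mathlib
import Cfsg.Agent.AschCrit.Count
import Cfsg.Agent.AschCrit.CommFour.Odd

/-!
# Aschbacher's criterion, commutative case, Suzuki type: the set-up

`Hyp Ω z k` : `G` is 2-transitive on `Ω`, `V_a = D_a ∪ 1` is commutative of order `q = 2 ^ k`, `k` odd,
`|Ω| = 1 + q³ (q² - q + 1)`, and for every bad `t` with `Δ = Fix t` the group `L_t = ⟨D ∩ C(t)⟩` acts
on `Δ` like `Sz(q)` (`SzLine`).
-/

set_option autoImplicit false

namespace Cfsg.Agent.AschCrit.CommFour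

open Subgroup MulAction
open scoped commutatorElement
open Cfsg.Agent.TwoFusion.StronglyEmbeddedBasic Cfsg.Agent.AschCrit.Basic
open Cfsg.Agent.AschCrit.Basic.Setup Cfsg.Agent.AschCrit.Closed Cfsg.Agent.AschCrit.Count

section Generic

variable {G Ω : Type*} [Group G] [MulAction G Ω]

/-- orbit-stabiliser for a subgroup `H` transitive on an invariant set `S` -/
theorem card_eq_mul_card_stab [Finite G] (H : Subgroup G) (S : Set Ω) {b : Ω} (hb : b ∈ S)
    (hinv : ∀ h ∈ H, ∀ c ∈ S, h • c ∈ S) (htr : ∀ c ∈ S, ∃ h ∈ H, h • b = c) :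
    Nat.card H = Nat.card S * Nat.card (H ⊓ stabilizer G b : Subgroup G) := by
  have h1 := (stabilizer H b).card_mul_index
  rw [index_stabilizer] at h1
  have h2 : orbit H b = S := by
    ext c
    constructor
    · rintro ⟨h, rfl⟩
      exact hinv h h.2 b hb
    · intro hc
      obtain ⟨h, hh, rfl⟩ := htr c hc
      exact ⟨⟨h, hh⟩, rfl⟩
  have h3 : Nat.card (stabilizer H b) = Nat.card (H ⊓ stabilizer G b : Subgroup G) :=
    Nat.card_congr
      { toFun := fun x => ⟨x.1.1, x.1.2, x.2⟩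
        invFun := fun x => ⟨⟨x.1, x.2.1⟩, x.2.2⟩
        left_inv := fun x => rfl
        right_inv := fun x => rfl }
  rw [h2, h3] at h1
  rw [← h1, Nat.card_coe_set_eq, mul_comm]

/-- A map from `T` separating the cosets of `Z ≤ T`, into a finite type with at most
`|T : Z|` elements, is surjective. -/
theorem surj_of_relIndex [Finite G] {T Z : Subgroup G} {X : Type*} [Finite X]
    (f : T → X) (hf : ∀ g h : T, f g = f h → (g : G)⁻¹ * h ∈ Z)
    (hcard : Nat.card X * Nat.card Z ≤ Nat.card T) (x : X) : ∃ g : T, f g = x := by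
  classical
  -- count the fibres
  have h1 : ∀ y : X, Nat.card {g : T // f g = y} ≤ Nat.card Z := by
    intro y
    by_cases hne : Nonempty {g : T // f g = y}
    · obtain ⟨g₀⟩ := hne
      refine Nat.card_le_card_of_injective (fun g => (⟨(g₀.1.1)⁻¹ * g.1.1, ?_⟩ : Z)) ?_
      · exact hf _ _ (g₀.2.trans g.2.symm)
      · intro g h hgh
        have h2 : (g₀.1.1)⁻¹ * g.1.1 = (g₀.1.1)⁻¹ * h.1.1 := congrArg Subtype.val hgh
        exact Subtype.ext (Subtype.ext (mul_left_cancel h2))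
    · have : IsEmpty {g : T // f g = y} := not_nonempty_iff.mp hne
      rw [Nat.card_of_isEmpty]
      exact Nat.zero_le _
  by_contra hcon
  push Not at hcon
  cases nonempty_fintype X
  have h2 : Nat.card T = ∑ y : X, Nat.card {g : T // f g = y} := by
    rw [← Nat.card_sigma]
    exact Nat.card_congr (Equiv.sigmaFiberEquiv f).symm
  have h3 : ∑ y : X, Nat.card {g : T // f g = y} < ∑ _y : X, Nat.card Z := by
    apply Finset.sum_lt_sum (fun y _ => h1 y)
    refine ⟨x, Finset.mem_univ x, ?_⟩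
    have : IsEmpty {g : T // f g = x} := ⟨fun g => hcon g.1 g.2⟩
    rw [Nat.card_of_isEmpty]
    exact Nat.card_pos
  rw [Finset.sum_const, Finset.card_univ, smul_eq_mul, ← Nat.card_eq_fintype_card, ← h2] at h3
  omega

end Generic

section Defs

variable {G : Type*} [Group G]

/-- the subgroup generated by the elements of `D` commuting with `t` -/
def Lt (z t : G) : Subgroup G := closure {d | IsConj z d ∧ Commute d t}

/-- the elements fixing all fixed points of `t` -/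
def Kt (Ω : Type*) [MulAction G Ω] (t : G) : Subgroup G where
  carrier := {g | ∀ c : Ω, t • c = c → g • c = c}
  one_mem' := fun c _ => one_smul G c
  mul_mem' := by
    intro a b ha hb c hc
    rw [mul_smul, hb c hc, ha c hc]
  inv_mem' := by
    intro a ha c hc
    rw [inv_smul_eq_iff, ha c hc]

theorem mem_Kt {Ω : Type*} [MulAction G Ω] {t g : G} :
    g ∈ Kt Ω t ↔ ∀ c : Ω, t • c = c → g • c = c := Iff.rfl

/-- the two-point stabiliser in `L_t` -/
abbrev Tt {Ω : Type*} [MulAction G Ω] (z t : G) (a b : Ω) : Subgroup G :=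
  Lt z t ⊓ (stabilizer G a ⊓ stabilizer G b)

/-- the kernel of `L_t` on `Fix t` -/
abbrev Zt (Ω : Type*) [MulAction G Ω] (z t : G) : Subgroup G := Lt z t ⊓ Kt Ω t

/-- `U` induces on `Fix t` the regular normal subgroup of the stabiliser of `a` in `L_t` -/
structure IsU {Ω : Type*} [MulAction G Ω] (z t : G) (a : Ω) (U : Subgroup G) : Prop where
  le : U ≤ Lt z t
  ker_le : Zt Ω z t ≤ U
  fix : ∀ u ∈ U, u • a = a
  normal : ∀ g ∈ Lt z t, g • a = a → ∀ u ∈ U, g * u * g⁻¹ ∈ U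
  trans : ∀ b c : Ω, t • b = b → t • c = c → b ≠ a → c ≠ a → ∃ u ∈ U, u • b = c
  free : ∀ u ∈ U, ∀ b : Ω, t • b = b → b ≠ a → u • b = b → u ∈ Kt Ω t
  at_le : ∀ d ∈ At z a, d ∈ U
  cent : ∀ u ∈ U, ∀ d ∈ At z a, ⁅u, d⁆ ∈ Kt Ω t
  sq : ∀ u ∈ U, ∃ v, (v = 1 ∨ v ∈ At z a) ∧ u * u * v ∈ Kt Ω t
  of_sq : ∀ u ∈ U, u * u ∈ Kt Ω t → ∃ v, (v = 1 ∨ v ∈ At z a) ∧ u * v ∈ Kt Ω t
  noncomm : ∃ u ∈ U, ∃ v ∈ U, ⁅u, v⁆ ∉ Kt Ω t

/-- `L_t` acts on `Fix t` like the Suzuki group `Sz(2 ^ k)` -/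
structure SzLine (Ω : Type*) [MulAction G Ω] (z t : G) (k : ℕ) : Prop where
  two : ∀ a b c d : Ω, t • a = a → t • b = b → t • c = c → t • d = d → a ≠ b → c ≠ d →
    ∃ g ∈ Lt z t, g • a = c ∧ g • b = d
  three : ∀ g ∈ Lt z t, ∀ a b c : Ω, t • a = a → t • b = b → t • c = c → a ≠ b → b ≠ c → a ≠ c →
    g • a = a → g • b = b → g • c = c → g ∈ Kt Ω t
  card_torus : ∀ a b : Ω, t • a = a → t • b = b → a ≠ b →
    Nat.card (Tt z t a b) = (2 ^ k - 1) * Nat.card (Zt Ω z t)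
  comm_torus : ∀ a b : Ω, t • a = a → t • b = b → a ≠ b → ∀ g ∈ Tt z t a b, ∀ h ∈ Tt z t a b,
    ⁅g, h⁆ ∈ Kt Ω t
  unip : ∀ a : Ω, t • a = a → ∃ U : Subgroup G, IsU z t a U

/-- The hypotheses in case (C4). -/
structure Hyp (Ω : Type*) [MulAction G Ω] (z : G) (k : ℕ) : Prop where
  setup : Setup G Ω z
  faith : ∀ g : G, (∀ a : Ω, g • a = a) → g = 1
  comm : ∀ a : Ω, ∀ d ∈ At z a, ∀ e ∈ At z a, Commute d e
  two : ∀ a b c d : Ω, a ≠ b → c ≠ d → ∃ g : G, g • a = c ∧ g • b = d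
  oddk : Odd k
  k3 : 3 ≤ k
  cardAt : ∀ a : Ω, Nat.card (At z a) + 1 = 2 ^ k
  cent : ∀ t : G, Bad Ω t → ∀ a : Ω, t • a = a → ∀ d ∈ At z a, Commute d t
  cardFix : ∀ t : G, Bad Ω t → Nat.card {a : Ω // t • a = a} = (2 ^ k) ^ 2 + 1
  cardPts : Nat.card Ω = 1 + (2 ^ k) ^ 3 * ((2 ^ k) ^ 2 - 2 ^ k + 1)
  bad : ∃ t : G, Bad Ω t
  line : ∀ t t' : G, Bad Ω t → Bad Ω t' → ∀ a b : Ω, a ≠ b → t • a = a → t • b = b →
    t' • a = a → t' • b = b → ∀ c : Ω, t • c = c → t' • c = c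
  sz : ∀ t : G, Bad Ω t → SzLine Ω z t k

end Defs

namespace Hyp

variable {G Ω : Type*} [Group G] [Finite G] [MulAction G Ω] {z : G} {k : ℕ}

/-- `V_a = D_a ∪ 1` -/
def V (H : Hyp Ω z k) (a : Ω) : Subgroup G where
  carrier := {x | x = 1 ∨ x ∈ At z a}
  one_mem' := Or.inl rfl
  mul_mem' := by
    rintro x y (rfl | hx) (rfl | hy)
    · left; simp
    · right; rwa [one_mul]
    · right; rwa [mul_one]
    · by_cases hxy : x = y
      · left; rw [hxy, H.setup.mul_self hy.1]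
      · right
        exact ⟨mul_mem_class H.setup H.faith hx.1 hy.1 (H.comm a x hx y hy) hxy,
          by rw [mul_smul, hy.2, hx.2]⟩
  inv_mem' := by
    rintro x (rfl | hx)
    · left; simp
    · right; rwa [H.setup.inv_eq hx.1]

theorem mem_V (H : Hyp Ω z k) {a : Ω} {x : G} : x ∈ H.V a ↔ x = 1 ∨ x ∈ At z a := Iff.rfl

theorem mem_V_of_at (H : Hyp Ω z k) {a : Ω} {x : G} (hx : x ∈ At z a) : x ∈ H.V a := Or.inr hx

theorem mem_at (H : Hyp Ω z k) {a : Ω} {x : G} (hx : x ∈ H.V a) (h1 : x ≠ 1) : x ∈ At z a :=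
  hx.resolve_left h1

theorem V_fix (H : Hyp Ω z k) {a : Ω} {x : G} (hx : x ∈ H.V a) : x • a = a := by
  rcases hx with rfl | hx
  · exact one_smul G a
  · exact hx.2

theorem V_sq (H : Hyp Ω z k) {a : Ω} {x : G} (hx : x ∈ H.V a) : x * x = 1 := by
  rcases hx with rfl | hx
  · exact one_mul 1
  · exact H.setup.mul_self hx.1

theorem V_comm (H : Hyp Ω z k) {a : Ω} {x y : G} (hx : x ∈ H.V a) (hy : y ∈ H.V a) :
    Commute x y := by
  rcases hx with rfl | hx
  · exact Commute.one_left y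
  · rcases hy with rfl | hy
    · exact Commute.one_right x
    · exact H.comm a x hx y hy

theorem V_free (H : Hyp Ω z k) {a b : Ω} {x : G} (hx : x ∈ H.V a) (hb : x • b = b) (hab : b ≠ a) :
    x = 1 := by
  rcases hx with rfl | hx
  · rfl
  · exact absurd (H.setup.uniq hx.1 hb hx.2) hab

theorem V_conj (H : Hyp Ω z k) {a : Ω} {x : G} (hx : x ∈ H.V a) (g : G) :
    g * x * g⁻¹ ∈ H.V (g • a) := by
  rcases hx with rfl | hx
  · left; simp
  · right; exact conj_mem_At g hx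

theorem V_conj_fix (H : Hyp Ω z k) {a : Ω} {x : G} (hx : x ∈ H.V a) {g : G} (hg : g • a = a) :
    g * x * g⁻¹ ∈ H.V a := by
  have := H.V_conj hx g
  rwa [hg] at this

theorem card_V (H : Hyp Ω z k) (a : Ω) : Nat.card (H.V a) = 2 ^ k := by
  classical
  rw [← H.cardAt a]
  have h1 : ((H.V a : Subgroup G) : Set G) = insert 1 (At z a) := by
    ext x; exact Iff.rfl
  have h2 : (1 : G) ∉ At z a := by
    intro h
    have := H.setup.orderOf_eq h.1
    rw [orderOf_one] at this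
    omega
  have h3 : Nat.card (H.V a) = ((H.V a : Subgroup G) : Set G).ncard := Nat.card_coe_set_eq _
  rw [h3, h1, Set.ncard_insert_of_notMem h2 (Set.toFinite _), Nat.card_coe_set_eq]

theorem q_pos (_ : Hyp Ω z k) : 0 < 2 ^ k := by positivity

theorem q8 (H : Hyp Ω z k) : 8 ≤ 2 ^ k := by
  calc 8 = 2 ^ 3 := by norm_num
    _ ≤ 2 ^ k := Nat.pow_le_pow_right (by norm_num) H.k3

/-- for bad `t` and `a ∈ Fix t`, `V_a` centralises `t` -/
theorem V_comm_t (H : Hyp Ω z k) {t : G} (ht : Bad Ω t) {a : Ω} (ha : t • a = a) {x : G}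
    (hx : x ∈ H.V a) : Commute x t := by
  rcases hx with rfl | hx
  · exact Commute.one_left t
  · exact H.cent t ht a ha x hx

/-- (R1) -/
theorem isConj_mul (H : Hyp Ω z k) {u y : G} (hu : Bad Ω u) (hy : IsConj z y)
    (hyu : Commute y u) : IsConj u (u * y) := by
  have h := H.setup
  have hf := H.faith
  obtain ⟨a, ha⟩ := h.ex hy
  have hua : u • a = a := h.fix_of_commute hy hyu.symm ha
  -- another element of `D_a`
  obtain ⟨b, hb, hby⟩ : ∃ b ∈ At z a, b ≠ y := by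
    by_contra hcon
    push Not at hcon
    have h1 : Nat.card (At z a) ≤ 1 := by
      rw [Finite.card_le_one_iff_subsingleton]
      exact ⟨fun p q => Subtype.ext ((hcon _ p.2).trans (hcon _ q.2).symm)⟩
    have := H.cardAt a
    have := H.q8
    omega
  have hbu := H.cent u hu a hua b hb
  have hbyc : Commute b y := H.comm a b hb y ⟨hy, ha⟩
  have hv := bad_mul h hf hu hy hyu
  obtain ⟨-, p, q, hpq, hp, hq⟩ := id hv
  obtain ⟨-, p', q', hpq', hp', hq'⟩ := id hu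
  obtain ⟨c, hc, hcb⟩ := exists_conj_commute h hv.mul_self hpq hp hq hb.1 hy
    (hbu.mul_right hbyc) (hyu.mul_right (Commute.refl y))
  have h1 : IsConj (u * y * b) u := by
    refine isConj_iff.mpr ⟨c, ?_⟩
    calc c * (u * y * b) * c⁻¹ = (c * (u * y)) * b * c⁻¹ := by group
      _ = u * y * (c * b * c⁻¹) := by rw [hc.eq]; group
      _ = u * (y * y) := by rw [hcb]; group
      _ = u := by rw [h.mul_self hy, mul_one]
  have hyb : IsConj z (y * b) := mul_mem_class h hf hy hb.1 hbyc.symm (Ne.symm hby)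
  have hybu : Commute (y * b) u := hyu.mul_left hbu
  obtain ⟨c', hc', hcb'⟩ := exists_conj_commute h hu.mul_self hpq' hp' hq' hyb hy hybu hyu
  have h2 : IsConj (u * y * b) (u * y) := by
    refine isConj_iff.mpr ⟨c', ?_⟩
    calc c' * (u * y * b) * c'⁻¹ = (c' * u) * (y * b) * c'⁻¹ := by group
      _ = u * (c' * (y * b) * c'⁻¹) := by rw [hc'.eq]; group
      _ = u * y := by rw [hcb']
  exact h1.symm.trans h2

/-! ### The line of a bad involution -/

section Line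

variable {t : G}

theorem Lt_le (_ : Hyp Ω z k) : Lt z t ≤ centralizer {t} := by
  rw [Lt, closure_le]
  rintro d ⟨-, hd⟩
  rw [SetLike.mem_coe, mem_centralizer_singleton_iff]
  exact hd.eq

theorem Lt_comm (H : Hyp Ω z k) {g : G} (hg : g ∈ Lt z t) : Commute g t := by
  have := H.Lt_le hg
  rw [mem_centralizer_singleton_iff] at this
  exact this

theorem smul_fix_of_comm (_ : Hyp Ω z k) {g : G} (hg : Commute g t) {c : Ω} (hc : t • c = c) :
    t • (g • c) = g • c := by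
  rw [smul_smul, ← hg.eq, mul_smul, hc]

theorem Lt_smul (H : Hyp Ω z k) {g : G} (hg : g ∈ Lt z t) {c : Ω} (hc : t • c = c) :
    t • (g • c) = g • c := H.smul_fix_of_comm (H.Lt_comm hg) hc

theorem V_le_Lt (H : Hyp Ω z k) (ht : Bad Ω t) {a : Ω} (ha : t • a = a) : H.V a ≤ Lt z t := by
  intro x hx
  rcases id hx with rfl | hx'
  · exact one_mem _
  · exact subset_closure ⟨hx'.1, H.V_comm_t ht ha hx⟩

/-- `K_t` centralises `V_c`, `c ∈ Fix t` -/
theorem Kt_comm_V (H : Hyp Ω z k) (ht : Bad Ω t) {c : Ω} (hc : t • c = c) {x g : G}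
    (hx : x ∈ H.V c) (hg : g ∈ Kt Ω t) : Commute g x := by
  have hw : g * x * g⁻¹ * x⁻¹ ∈ H.V c := mul_mem (H.V_conj_fix hx (hg c hc)) (inv_mem hx)
  obtain ⟨-, p, q, hpq, hp, hq⟩ := id ht
  obtain ⟨d, hd, hdc⟩ : ∃ d : Ω, t • d = d ∧ d ≠ c := by
    by_cases h : p = c
    · exact ⟨q, hq, fun h' => hpq (h.trans h'.symm)⟩
    · exact ⟨p, hp, h⟩
  have hxt := H.V_comm_t ht hc hx
  have hfix : (g * x * g⁻¹ * x⁻¹) • d = d := by
    have h1 : t • (x⁻¹ • d) = x⁻¹ • d := H.smul_fix_of_comm hxt.inv_left hd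
    have h2 : g⁻¹ • (x⁻¹ • d) = x⁻¹ • d := (Kt Ω t).inv_mem hg _ h1
    rw [mul_smul, mul_smul, mul_smul, h2, smul_inv_smul, hg d hd]
  have h1 := H.V_free hw hfix hdc
  show g * x = x * g
  calc g * x = (g * x * g⁻¹ * x⁻¹) * (x * g) := by group
    _ = x * g := by rw [h1, one_mul]

theorem Kt_comm_Lt (H : Hyp Ω z k) (ht : Bad Ω t) {g : G} (hg : g ∈ Kt Ω t) {x : G}
    (hx : x ∈ Lt z t) : Commute g x := by
  have h1 : Lt z t ≤ centralizer {g} := by
    rw [Lt, closure_le]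
    rintro d ⟨hd, hdt⟩
    rw [SetLike.mem_coe, mem_centralizer_singleton_iff]
    obtain ⟨c, hc⟩ := H.setup.ex hd
    have htc := H.setup.fix_of_commute hd hdt.symm hc
    exact (H.Kt_comm_V ht htc (H.mem_V_of_at ⟨hd, hc⟩) hg).symm.eq
  have := h1 hx
  rw [mem_centralizer_singleton_iff] at this
  exact this.symm

/-- `V_a ∩ K_t = 1` -/
theorem V_inf_Kt (H : Hyp Ω z k) (ht : Bad Ω t) {c : Ω} {x : G} (hx : x ∈ H.V c)
    (hg : x ∈ Kt Ω t) : x = 1 := by
  obtain ⟨-, p, q, hpq, hp, hq⟩ := id ht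
  obtain ⟨d, hd, hdc⟩ : ∃ d : Ω, t • d = d ∧ d ≠ c := by
    by_cases h : p = c
    · exact ⟨q, hq, fun h' => hpq (h.trans h'.symm)⟩
    · exact ⟨p, hp, h⟩
  exact H.V_free hx (hg d hd) hdc

end Line

end Hyp

end Cfsg.Agent.AschCrit.CommFour
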