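import Mathlib
import Cfsg.Agent.AschCrit.CommFour.Base

/-!
# The kernel of `L_t` on `Fix t` is central of odd order
-/

set_option autoImplicit false

namespace Cfsg.Agent.AschCrit.CommFour

open Subgroup MulAction
open scoped commutatorElement
open Cfsg.Agent.TwoFusion.StronglyEmbeddedBasic Cfsg.Agent.AschCrit.Basic
open Cfsg.Agent.AschCrit.Basic.Setup Cfsg.Agent.AschCrit.Closed Cfsg.Agent.AschCrit.Count

namespace Hyp

variable {G Ω : Type*} [Group G] [Finite G] [MulAction G Ω] {z : G} {k : ℕ} {t : G}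

theorem exists_ne (_ : Hyp Ω z k) (ht : Bad Ω t) (a : Ω) : ∃ b : Ω, t • b = b ∧ b ≠ a := by
  obtain ⟨-, p, q, hpq, hp, hq⟩ := id ht
  by_cases h : p = a
  · exact ⟨q, hq, fun h' => hpq (h.trans h'.symm)⟩
  · exact ⟨p, hp, h⟩

theorem Zt_comm (H : Hyp Ω z k) (ht : Bad Ω t) {g x : G} (hg : g ∈ Zt Ω z t) (hx : x ∈ Lt z t) :
    g * x = x * g := (H.Kt_comm_Lt ht hg.2 hx).eq

theorem Zt_le_Tt (_ : Hyp Ω z k) {a b : Ω} (ha : t • a = a) (hb : t • b = b) :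
    Zt Ω z t ≤ Tt z t a b := fun _ hg => ⟨hg.1, hg.2 a ha, hg.2 b hb⟩

/-- an element of the torus commuting with some `v ∈ D_a` is in the kernel -/
theorem torus_semireg (H : Hyp Ω z k) (ht : Bad Ω t) {a b : Ω} (ha : t • a = a) (hb : t • b = b)
    (hab : a ≠ b) {v : G} (hv : v ∈ At z a) {h : G} (hh : h ∈ Tt z t a b) (hc : Commute h v) :
    h ∈ Kt Ω t := by
  have hvb : v • b ≠ b := fun h' => hab (H.setup.uniq hv.1 hv.2 h')
  have hva : v • b ≠ a := fun h' => hab (smul_left_cancel v (hv.2.trans h'.symm))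
  have hvt := H.cent t ht a ha v hv
  refine (H.sz t ht).three h hh.1 a b (v • b) ha hb (H.smul_fix_of_comm hvt hb) hab
    (Ne.symm hvb) (Ne.symm hva) hh.2.1 hh.2.2 ?_
  rw [smul_smul, hc.eq, mul_smul, hh.2.2]

theorem q1_pos (H : Hyp Ω z k) : 0 < 2 ^ k - 1 := by have := H.q8; omega

theorem card_at (H : Hyp Ω z k) (a : Ω) : Nat.card (At z a) = 2 ^ k - 1 := by
  have := H.cardAt a; omega

/-- the torus is transitive on `D_a` -/
theorem torus_trans (H : Hyp Ω z k) (ht : Bad Ω t) {a b : Ω} (ha : t • a = a) (hb : t • b = b)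
    (hab : a ≠ b) {v w : G} (hv : v ∈ At z a) (hw : w ∈ At z a) :
    ∃ h ∈ Tt z t a b, h * v * h⁻¹ = w := by
  let f : Tt z t a b → At z a := fun h => ⟨h * v * (h : G)⁻¹, by
    have := conj_mem_At (h : G) hv
    rwa [h.2.2.1] at this⟩
  obtain ⟨g, hg⟩ := surj_of_relIndex (Z := Zt Ω z t) f (by
      intro g h hgh
      have h1 : (g : G) * v * (g : G)⁻¹ = h * v * (h : G)⁻¹ := congrArg Subtype.val hgh
      have h2 : (g : G)⁻¹ * h ∈ Tt z t a b := mul_mem (inv_mem g.2) h.2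
      refine ⟨h2.1, H.torus_semireg ht ha hb hab hv h2 ?_⟩
      show (g : G)⁻¹ * h * v = v * ((g : G)⁻¹ * h)
      calc (g : G)⁻¹ * h * v = (g : G)⁻¹ * (h * v * (h : G)⁻¹) * h := by group
        _ = (g : G)⁻¹ * ((g : G) * v * (g : G)⁻¹) * h := by rw [h1]
        _ = _ := by group) (by
      rw [H.card_at, (H.sz t ht).card_torus a b ha hb hab]) ⟨w, hw⟩
  exact ⟨g, g.2, congrArg Subtype.val hg⟩

theorem card_line (H : Hyp Ω z k) (ht : Bad Ω t) {a : Ω} (ha : t • a = a) :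
    Nat.card {c : Ω | t • c = c ∧ c ≠ a} = (2 ^ k) ^ 2 := by
  classical
  have := H.setup.finite_points
  have h1 := H.cardFix t ht
  have h2 : Nat.card {a : Ω // t • a = a} = ({c : Ω | t • c = c} : Set Ω).ncard :=
    Nat.card_coe_set_eq _
  have h3 : ({c : Ω | t • c = c} : Set Ω) = insert a {c : Ω | t • c = c ∧ c ≠ a} := by
    ext c
    rw [Set.mem_insert_iff]
    constructor
    · intro hc
      by_cases hca : c = a
      · exact Or.inl hca
      · exact Or.inr ⟨hc, hca⟩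
    · rintro (rfl | hc)
      · exact ha
      · exact hc.1
  rw [h3, Set.ncard_insert_of_notMem (fun h => h.2 rfl) (Set.toFinite _)] at h2
  rw [Nat.card_coe_set_eq]
  omega

theorem card_U (H : Hyp Ω z k) (ht : Bad Ω t) {a : Ω} (ha : t • a = a) {U : Subgroup G}
    (hU : IsU z t a U) : Nat.card U = (2 ^ k) ^ 2 * Nat.card (Zt Ω z t) := by
  obtain ⟨b, hb, hba⟩ := H.exists_ne ht a
  have hst : U ⊓ stabilizer G b = Zt Ω z t := by
    apply le_antisymm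
    · intro u hu
      exact ⟨hU.le hu.1, hU.free u hu.1 b hb hba hu.2⟩
    · intro u hu
      exact ⟨hU.ker_le hu, hu.2 b hb⟩
  rw [card_eq_mul_card_stab U {c : Ω | t • c = c ∧ c ≠ a} (b := b) ⟨hb, hba⟩, H.card_line ht ha,
    hst]
  · intro u hu c hc
    refine ⟨H.Lt_smul (hU.le hu) hc.1, fun h => hc.2 ?_⟩
    have := hU.fix u hu
    exact smul_left_cancel u (h.trans this.symm)
  · intro c hc
    exact hU.trans b c hb hc.1 hba hc.2

theorem card_Lt (H : Hyp Ω z k) (ht : Bad Ω t) : Nat.card (Lt z t) =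
    ((2 ^ k) ^ 2 + 1) * ((2 ^ k) ^ 2 * ((2 ^ k - 1) * Nat.card (Zt Ω z t))) := by
  obtain ⟨-, a, b, hab, ha, hb⟩ := id ht
  have S := H.sz t ht
  rw [card_eq_mul_card_stab (Lt z t) {c : Ω | t • c = c} (b := a) ha]
  · have h1 : Nat.card {c : Ω | t • c = c} = (2 ^ k) ^ 2 + 1 := H.cardFix t ht
    rw [h1, card_eq_mul_card_stab (Lt z t ⊓ stabilizer G a) {c : Ω | t • c = c ∧ c ≠ a} (b := b)
      ⟨hb, Ne.symm hab⟩, H.card_line ht ha, inf_assoc, S.card_torus a b ha hb hab]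
    · intro g hg c hc
      refine ⟨H.Lt_smul hg.1 hc.1, fun h => hc.2 ?_⟩
      exact smul_left_cancel g (h.trans (show g • a = a from hg.2).symm)
    · intro c hc
      obtain ⟨g, hg, hga, hgb⟩ := S.two a b a c ha hb ha hc.1 hab (Ne.symm hc.2)
      exact ⟨g, ⟨hg, hga⟩, hgb⟩
  · intro g hg c hc
    exact H.Lt_smul hg hc
  · intro c hc
    obtain ⟨d, hd, hdc⟩ := H.exists_ne ht c
    obtain ⟨g, hg, hga, -⟩ := S.two a b c d ha hb hc hd hab (Ne.symm hdc)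
    exact ⟨g, hg, hga⟩

theorem Lt_perfect (H : Hyp Ω z k) (ht : Bad Ω t) : commutator (Lt z t) = ⊤ := by
  have h1 : Lt z t ≤ ⁅Lt z t, Lt z t⁆ := by
    conv_lhs => rw [Lt]
    rw [closure_le]
    rintro d ⟨hd, hdt⟩
    obtain ⟨a, ha⟩ := H.setup.ex hd
    have hta := H.setup.fix_of_commute hd hdt.symm ha
    obtain ⟨b, hb, hba⟩ := H.exists_ne ht a
    have hda : d ∈ At z a := ⟨hd, ha⟩
    obtain ⟨e, he, hed⟩ : ∃ e ∈ At z a, e ≠ d := by
      by_contra hcon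
      push Not at hcon
      have h1 : Nat.card (At z a) ≤ 1 := by
        rw [Finite.card_le_one_iff_subsingleton]
        exact ⟨fun p q => Subtype.ext ((hcon _ p.2).trans (hcon _ q.2).symm)⟩
      have := H.cardAt a
      have := H.q8
      omega
    have hde := H.comm a d hda e he
    have hf : d * e ∈ At z a := by
      refine H.mem_at (mul_mem (H.mem_V_of_at hda) (H.mem_V_of_at he)) ?_
      intro h
      apply hed
      have h2 := H.setup.inv_eq he.1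
      rw [← h2]
      exact (eq_inv_of_mul_eq_one_left h).symm
    obtain ⟨g, hg, hge⟩ := H.torus_trans ht hta hb (Ne.symm hba) he hf
    have h2 : ⁅e, g⁆ = d := by
      have hei := H.setup.inv_eq he.1
      have hee := H.setup.mul_self he.1
      calc ⁅e, g⁆ = e * (g * e⁻¹ * g⁻¹) := by rw [commutatorElement_def]; group
        _ = e * (d * e) := by rw [hei, hge]
        _ = d * (e * e) := by rw [← mul_assoc, ← hde.eq, mul_assoc]
        _ = d := by rw [hee, mul_one]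
    rw [← h2]
    exact commutator_mem_commutator (H.V_le_Lt ht hta (H.mem_V_of_at he)) hg.1
  have h2 : (commutator (Lt z t)).map (Lt z t).subtype = (⊤ : Subgroup (Lt z t)).map (Lt z t).subtype := by
    rw [map_subtype_commutator, ← MonoidHom.range_eq_map, range_subtype]
    refine le_antisymm (commutator_le.mpr fun g hg h hh => ?_) h1
    rw [commutatorElement_def]
    exact mul_mem (mul_mem (mul_mem hg hh) (inv_mem hg)) (inv_mem hh)
  exact map_injective (Lt z t).subtype_injective h2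

/-! ### The subgroup `V_a Z_t` of `U` -/

/-- `x ∈ V_a K_t` -/
def InVZ (H : Hyp Ω z k) (t : G) (a : Ω) (x : G) : Prop := ∃ v ∈ H.V a, v * x ∈ Kt Ω t

theorem U_comm_V (H : Hyp Ω z k) (ht : Bad Ω t) {a : Ω} {U : Subgroup G} (hU : IsU z t a U)
    {u v : G} (hu : u ∈ U) (hv : v ∈ H.V a) : u * v = v * u := by
  rcases id hv with rfl | hv'
  · simp
  · have h1 := hU.cent u hu v hv'
    have h2 : ⁅u, v⁆ ∈ H.V a := by
      rw [commutatorElement_def]
      exact mul_mem (H.V_conj_fix hv (hU.fix u hu)) (inv_mem hv)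
    rw [← commutatorElement_eq_one_iff_mul_comm]
    exact H.V_inf_Kt ht h2 h1

theorem V_le_U (H : Hyp Ω z k) {a : Ω} {U : Subgroup G} (hU : IsU z t a U) : H.V a ≤ U := by
  rintro v (rfl | hv)
  · exact one_mem U
  · exact hU.at_le v hv

/-- elements of `V_a Z_t` are central in `U` -/
theorem InVZ_comm (H : Hyp Ω z k) (ht : Bad Ω t) {a : Ω} {U : Subgroup G} (hU : IsU z t a U)
    {x u : G} (hx : H.InVZ t a x) (hu : u ∈ U) : u * x = x * u := by
  obtain ⟨v, hv, hvx⟩ := hx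
  have h1 : x = v⁻¹ * (v * x) := by group
  have h2 := (H.Kt_comm_Lt ht hvx (hU.le hu)).eq
  have h3 := H.U_comm_V ht hU hu (inv_mem hv)
  calc u * x = (u * v⁻¹) * (v * x) := by group
    _ = v⁻¹ * (u * (v * x)) := by rw [h3]; group
    _ = v⁻¹ * ((v * x) * u) := by rw [h2]
    _ = x * u := by group

theorem InVZ_mul (H : Hyp Ω z k) (ht : Bad Ω t) {a : Ω} {U : Subgroup G} (hU : IsU z t a U)
    {x y : G} (hxU : x ∈ U) (hx : H.InVZ t a x) (hy : H.InVZ t a y) : H.InVZ t a (x * y) := by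
  obtain ⟨v, hv, hvx⟩ := hx
  obtain ⟨w, hw, hwy⟩ := hy
  refine ⟨v * w, mul_mem hv hw, ?_⟩
  have h3 := H.U_comm_V ht hU hxU hw
  have : v * w * (x * y) = (v * x) * (w * y) := by
    calc v * w * (x * y) = v * (w * x) * y := by group
      _ = v * (x * w) * y := by rw [h3]
      _ = _ := by group
  rw [this]
  exact mul_mem hvx hwy

theorem InVZ_inv (H : Hyp Ω z k) (ht : Bad Ω t) {a : Ω} {U : Subgroup G} (hU : IsU z t a U)
    {x : G} (hxU : x ∈ U) (hx : H.InVZ t a x) : H.InVZ t a x⁻¹ := by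
  obtain ⟨v, hv, hvx⟩ := hx
  refine ⟨v⁻¹, inv_mem hv, ?_⟩
  have h3 := H.U_comm_V ht hU (inv_mem hxU) (inv_mem hv)
  have : v⁻¹ * x⁻¹ = (v * x)⁻¹ := by rw [mul_inv_rev, h3]
  rw [this]
  exact inv_mem hvx

theorem InVZ_conj (H : Hyp Ω z k) {a : Ω} {x h : G} (hx : H.InVZ t a x)
    (hha : h • a = a) (hht : Commute h t) : H.InVZ t a (h * x * h⁻¹) := by
  obtain ⟨v, hv, hvx⟩ := hx
  refine ⟨h * v * h⁻¹, H.V_conj_fix hv hha, ?_⟩
  have : h * v * h⁻¹ * (h * x * h⁻¹) = h * (v * x) * h⁻¹ := by group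
  rw [this]
  intro c hc
  have h1 : t • (h⁻¹ • c) = h⁻¹ • c := H.smul_fix_of_comm hht.inv_left hc
  rw [mul_smul, mul_smul, hvx _ h1, smul_inv_smul]

/-- `V_a Z_t` as a subgroup of `U` -/
def W (H : Hyp Ω z k) (ht : Bad Ω t) (a : Ω) (U : Subgroup G) (hU : IsU z t a U) : Subgroup G where
  carrier := {x | x ∈ U ∧ H.InVZ t a x}
  one_mem' := ⟨one_mem U, 1, one_mem _, by rw [one_mul]; exact one_mem _⟩
  mul_mem' := fun hx hy => ⟨mul_mem hx.1 hy.1, H.InVZ_mul ht hU hx.1 hx.2 hy.2⟩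
  inv_mem' := fun hx => ⟨inv_mem hx.1, H.InVZ_inv ht hU hx.1 hx.2⟩

theorem card_W (H : Hyp Ω z k) (ht : Bad Ω t) {a : Ω} {U : Subgroup G} (hU : IsU z t a U) :
    Nat.card (H.W ht a U hU) = 2 ^ k * Nat.card (Zt Ω z t) := by
  rw [← H.card_V a, ← Nat.card_prod]
  symm
  refine Nat.card_congr (Equiv.ofBijective
    (fun p : H.V a × Zt Ω z t => (⟨p.1 * p.2, mul_mem (H.V_le_U hU p.1.2) (hU.ker_le p.2.2),
      (p.1 : G)⁻¹, inv_mem p.1.2, by rw [inv_mul_cancel_left]; exact p.2.2.2⟩ : H.W ht a U hU))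
    ⟨?_, ?_⟩)
  · rintro ⟨v, ζ⟩ ⟨w, ξ⟩ hvw
    have h1 : (v : G) * ζ = w * ξ := congrArg Subtype.val hvw
    have h2 : (w : G)⁻¹ * v = ξ * (ζ : G)⁻¹ := by
      calc (w : G)⁻¹ * v = (w : G)⁻¹ * (v * ζ) * (ζ : G)⁻¹ := by group
        _ = _ := by rw [h1]; group
    have h3 : (w : G)⁻¹ * v = 1 :=
      H.V_inf_Kt ht (mul_mem (inv_mem w.2) v.2) (by
        rw [h2]; exact mul_mem ξ.2.2 (inv_mem ζ.2.2))
    have h4 : (v : G) = w := by
      calc (v : G) = w * ((w : G)⁻¹ * v) := by group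
        _ = w := by rw [h3, mul_one]
    have h5 : (ζ : G) = ξ := by
      rw [h4] at h1
      exact mul_left_cancel h1
    exact Prod.ext (Subtype.ext h4) (Subtype.ext h5)
  · rintro ⟨x, hxU, v, hv, hvx⟩
    refine ⟨⟨⟨v⁻¹, inv_mem hv⟩, ⟨v * x, ?_, hvx⟩⟩, ?_⟩
    · exact hU.le (mul_mem (H.V_le_U hU hv) hxU)
    · exact Subtype.ext (by simp)

theorem InVZ_sq (H : Hyp Ω z k) (ht : Bad Ω t) {a : Ω} {U : Subgroup G} (hU : IsU z t a U)
    {u : G} (hu : u ∈ U) : H.InVZ t a (u * u) := by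
  obtain ⟨v, hv, h1⟩ := hU.sq u hu
  refine ⟨v, hv, ?_⟩
  rw [← H.U_comm_V ht hU (mul_mem hu hu) hv]
  exact h1

theorem InVZ_of_sq (H : Hyp Ω z k) (ht : Bad Ω t) {a : Ω} {U : Subgroup G} (hU : IsU z t a U)
    {u : G} (hu : u ∈ U) (h : u * u ∈ Kt Ω t) : H.InVZ t a u := by
  obtain ⟨v, hv, h1⟩ := hU.of_sq u hu h
  refine ⟨v, hv, ?_⟩
  rw [← H.U_comm_V ht hU hu hv]
  exact h1

theorem InVZ_commutator (H : Hyp Ω z k) (ht : Bad Ω t) {a : Ω} {U : Subgroup G}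
    (hU : IsU z t a U) {x y : G} (hx : x ∈ U) (hy : y ∈ U) : H.InVZ t a ⁅x, y⁆ := by
  have h1 : ⁅x, y⁆ = (x * y) * (x * y) * (x⁻¹ * x⁻¹) * (y⁻¹ * y⁻¹) := by
    have h2 := H.InVZ_comm ht hU (H.InVZ_sq ht hU (inv_mem hx)) hy
    rw [commutatorElement_def]
    calc x * y * x⁻¹ * y⁻¹ = x * y * x * (x⁻¹ * x⁻¹ * y) * (y⁻¹ * y⁻¹) := by group
      _ = x * y * x * (y * (x⁻¹ * x⁻¹)) * (y⁻¹ * y⁻¹) := by rw [h2]
      _ = _ := by group
  rw [h1]
  have h3 := mul_mem hx hy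
  exact H.InVZ_mul ht hU (mul_mem (mul_mem h3 h3) (mul_mem (inv_mem hx) (inv_mem hx)))
    (H.InVZ_mul ht hU (mul_mem h3 h3) (H.InVZ_sq ht hU h3) (H.InVZ_sq ht hU (inv_mem hx)))
    (H.InVZ_sq ht hU (inv_mem hy))

/-- a torus element fixing a coset of `V_a Z_t` outside `V_a Z_t` is in the kernel -/
theorem torus_semireg_U (H : Hyp Ω z k) (ht : Bad Ω t) {a b : Ω} (ha : t • a = a)
    (hb : t • b = b) (hab : a ≠ b) {U : Subgroup G} (hU : IsU z t a U) {x j : G} (hx : x ∈ U)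
    (hxn : ¬ H.InVZ t a x) (hj : j ∈ Tt z t a b) (hjx : H.InVZ t a (x⁻¹ * (j * x * j⁻¹))) :
    j ∈ Kt Ω t := by
  obtain ⟨w, hw⟩ : ∃ w, w = x⁻¹ * (j * x * j⁻¹) := ⟨_, rfl⟩
  rw [← hw] at hjx
  have hjxj : j * x * j⁻¹ = x * w := by rw [hw]; group
  have hwU : w ∈ U := by
    rw [hw]; exact mul_mem (inv_mem hx) (hU.normal j hj.1 hj.2.1 x hx)
  -- `w² = ζ²`
  obtain ⟨v, hv, hvw⟩ := hjx
  have hw2 : w * w = (v * w) * (v * w) := by
    have h1 := H.U_comm_V ht hU hwU hv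
    have h2 := H.V_sq hv
    calc w * w = (v * v) * (w * w) := by rw [h2, one_mul]
      _ = v * (v * w) * w := by group
      _ = v * (w * v) * w := by rw [h1]
      _ = _ := by group
  have hwc : x * w = w * x := H.InVZ_comm ht hU ⟨v, hv, hvw⟩ hx
  -- `x² = v₁ ζ₁`
  obtain ⟨v₁, hv₁, hζ₁⟩ := H.InVZ_sq ht hU hx
  have hv₁1 : v₁ ≠ 1 := by
    rintro rfl
    rw [one_mul] at hζ₁
    exact hxn (H.InVZ_of_sq ht hU hx hζ₁)
  have hjL := hj.1
  have h1 : j * (v₁ * (x * x)) * j⁻¹ = v₁ * (x * x) := by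
    have h2 := (H.Kt_comm_Lt ht hζ₁ hjL).eq
    rw [← h2]; group
  have h2 : (j * v₁ * j⁻¹) * ((x * w) * (x * w)) = v₁ * (x * x) := by
    rw [← h1, ← hjxj]; group
  have h3 : (x * w) * (x * w) = (x * x) * (w * w) := by
    calc (x * w) * (x * w) = x * (w * x) * w := by group
      _ = x * (x * w) * w := by rw [hwc]
      _ = _ := by group
  have h4 : v₁⁻¹ * (j * v₁ * j⁻¹) ∈ Kt Ω t := by
    have h5 : v₁⁻¹ * (j * v₁ * j⁻¹) = (x * x) * (w * w)⁻¹ * (x * x)⁻¹ := by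
      rw [h3] at h2
      have h6 : j * v₁ * j⁻¹ = v₁ * (x * x) * (w * w)⁻¹ * (x * x)⁻¹ := by
        rw [← h2]; group
      rw [h6]; group
    have h6 : (x * x) * (w * w)⁻¹ * (x * x)⁻¹ = (w * w)⁻¹ := by
      rw [hw2]
      have h7 : (v * w * (v * w))⁻¹ ∈ Kt Ω t := inv_mem (mul_mem hvw hvw)
      have h8 := (H.Kt_comm_Lt ht h7 (hU.le (mul_mem hx hx))).eq
      rw [← h8]; group
    rw [h5, h6, hw2]
    exact inv_mem (mul_mem hvw hvw)
  have h5 : v₁⁻¹ * (j * v₁ * j⁻¹) = 1 :=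
    H.V_inf_Kt ht (mul_mem (inv_mem hv₁) (H.V_conj_fix hv₁ hj.2.1)) h4
  refine H.torus_semireg ht ha hb hab (H.mem_at hv₁ hv₁1) hj ?_
  show j * v₁ = v₁ * j
  calc j * v₁ = v₁ * (v₁⁻¹ * (j * v₁ * j⁻¹)) * j := by group
    _ = v₁ * j := by rw [h5, mul_one]

/-- the torus is transitive on the nontrivial cosets of `V_a Z_t` in `U` -/
theorem torus_trans_U (H : Hyp Ω z k) (ht : Bad Ω t) {a b : Ω} (ha : t • a = a)
    (hb : t • b = b) (hab : a ≠ b) {U : Subgroup G} (hU : IsU z t a U) {x y : G} (hx : x ∈ U)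
    (hy : y ∈ U) (hxn : ¬ H.InVZ t a x) (hyn : ¬ H.InVZ t a y) :
    ∃ h ∈ Tt z t a b, H.InVZ t a (h * x * h⁻¹ * y⁻¹) := by
  classical
  obtain ⟨W, hW⟩ : ∃ W : Subgroup G, W = H.W ht a U hU := ⟨_, rfl⟩
  have hWU : W ≤ U := by rw [hW]; exact fun _ h => h.1
  have hWm : ∀ x ∈ U, x ∈ W ↔ H.InVZ t a x := by
    intro x hx; rw [hW]; exact ⟨fun h => h.2, fun h => ⟨hx, h⟩⟩
  let X := {c : U ⧸ W.subgroupOf U // c ≠ QuotientGroup.mk 1}
  have hmk : ∀ u : U, (QuotientGroup.mk u : U ⧸ W.subgroupOf U) = QuotientGroup.mk 1 ↔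
      (u : G) ∈ W := by
    intro u
    rw [eq_comm, QuotientGroup.eq, inv_one, one_mul, mem_subgroupOf]
  have hconj : ∀ h : Tt z t a b, (h : G) * x * (h : G)⁻¹ ∈ U := fun h =>
    hU.normal h h.2.1 h.2.2.1 x hx
  have hconjn : ∀ h : Tt z t a b, ¬ H.InVZ t a ((h : G) * x * (h : G)⁻¹) := by
    intro h hc
    apply hxn
    have h1 : (h : G)⁻¹ • a = a := by rw [inv_smul_eq_iff]; exact h.2.2.1.symm
    have h2 := H.InVZ_conj (h := (h : G)⁻¹) hc h1 (H.Lt_comm h.2.1).inv_left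
    convert h2 using 1
    group
  let f : Tt z t a b → X := fun h => ⟨QuotientGroup.mk ⟨(h : G) * x * (h : G)⁻¹, hconj h⟩, by
    intro h1
    rw [hmk] at h1
    exact hconjn h ((hWm _ (hconj h)).mp h1)⟩
  have hcX : Nat.card X * Nat.card (Zt Ω z t) ≤ Nat.card (Tt z t a b) := by
    have h1 : Nat.card X + 1 = 2 ^ k := by
      have h2 : Nat.card (U ⧸ W.subgroupOf U) = 2 ^ k := by
        have h3 := Odd.card_mul_relIndex' hWU
        rw [hW, H.card_W ht hU, H.card_U ht ha hU, ← hW] at h3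
        have h4 : 2 ^ k * Nat.card (Zt Ω z t) * W.relIndex U =
            2 ^ k * Nat.card (Zt Ω z t) * 2 ^ k := by rw [h3]; ring
        exact Nat.eq_of_mul_eq_mul_left (Nat.mul_pos H.q_pos Nat.card_pos) h4
      have : Fintype (U ⧸ W.subgroupOf U) := Fintype.ofFinite _
      have h3 : Nat.card X = Fintype.card (U ⧸ W.subgroupOf U) - 1 := by
        show Nat.card {c : U ⧸ W.subgroupOf U // c ≠ QuotientGroup.mk 1} = _
        rw [Nat.card_eq_fintype_card, Fintype.card_subtype_compl (fun c => c = QuotientGroup.mk 1)]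
        simp only [Fintype.card_subtype_eq]
      rw [Nat.card_eq_fintype_card] at h2
      rw [h3, h2]
      have := H.q8
      omega
    rw [(H.sz t ht).card_torus a b ha hb hab]
    have : Nat.card X = 2 ^ k - 1 := by omega
    rw [this]
  obtain ⟨g, hg⟩ := surj_of_relIndex (Z := Zt Ω z t) f (by
      intro g h hgh
      have h1 : (QuotientGroup.mk ⟨(g : G) * x * (g : G)⁻¹, hconj g⟩ : U ⧸ W.subgroupOf U) =
        QuotientGroup.mk ⟨(h : G) * x * (h : G)⁻¹, hconj h⟩ := congrArg Subtype.val hgh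
      rw [QuotientGroup.eq, mem_subgroupOf] at h1
      have h2 : ((g : G) * x * (g : G)⁻¹)⁻¹ * ((h : G) * x * (h : G)⁻¹) ∈ W := h1
      have hj : (g : G)⁻¹ * h ∈ Tt z t a b := mul_mem (inv_mem g.2) h.2
      refine ⟨hj.1, H.torus_semireg_U ht ha hb hab hU hx hxn hj ?_⟩
      have hga : (g : G)⁻¹ • a = a := by rw [inv_smul_eq_iff]; exact g.2.2.1.symm
      have h3 := (hWm _ (mul_mem (inv_mem (hconj g)) (hconj h))).mp h2
      have h4 := H.InVZ_conj (h := (g : G)⁻¹) h3 hga (H.Lt_comm g.2.1).inv_left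
      convert h4 using 1
      group) hcX ⟨QuotientGroup.mk ⟨y, hy⟩, by
        intro h1
        rw [hmk] at h1
        exact hyn ((hWm y hy).mp h1)⟩
  have h1 : (QuotientGroup.mk ⟨(g : G) * x * (g : G)⁻¹, hconj g⟩ : U ⧸ W.subgroupOf U) =
        QuotientGroup.mk ⟨y, hy⟩ := congrArg Subtype.val hg
  rw [QuotientGroup.eq, mem_subgroupOf] at h1
  have h2 : ((g : G) * x * (g : G)⁻¹)⁻¹ * y ∈ W := h1
  refine ⟨g, g.2, ?_⟩
  have h3 := (hWm _ (mul_mem (inv_mem (hconj g)) hy)).mp h2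
  have h4 := H.InVZ_inv ht hU (mul_mem (inv_mem (hconj g)) hy) h3
  have h5 := H.InVZ_comm ht hU h4 hy
  have h6 : (g : G) * x * (g : G)⁻¹ * y⁻¹ = (((g : G) * x * (g : G)⁻¹)⁻¹ * y)⁻¹ := by
    calc (g : G) * x * (g : G)⁻¹ * y⁻¹
        = y * (((g : G) * x * (g : G)⁻¹)⁻¹ * y)⁻¹ * y⁻¹ := by group
      _ = (((g : G) * x * (g : G)⁻¹)⁻¹ * y)⁻¹ * y * y⁻¹ := by rw [h5]
      _ = _ := by group
  rw [h6]
  exact h4

end Hyp

end Cfsg.Agent.AschCrit.CommFour
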