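import Mathlib
import Cfsg.Agent.AschCrit.CommFour.Ker

/-!
# `L_t` is regular outside `Fix t`
-/

set_option autoImplicit false

namespace Cfsg.Agent.AschCrit.CommFour

open Subgroup MulAction
open scoped commutatorElement
open Cfsg.Agent.TwoFusion.StronglyEmbeddedBasic Cfsg.Agent.AschCrit.Basic
open Cfsg.Agent.AschCrit.Basic.Setup Cfsg.Agent.AschCrit.Closed Cfsg.Agent.AschCrit.Count

namespace Hyp

variable {G Ω : Type*} [Group G] [Finite G] [MulAction G Ω] {z : G} {k : ℕ} {t : G}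

theorem card_subgroupOf' {H K : Subgroup G} (h : H ≤ K) :
    Nat.card (H.subgroupOf K) = Nat.card H :=
  Nat.card_congr (subgroupOfEquivOfLe h).toEquiv

/-- the kernel of `L_t` on `Fix t` has odd order -/
theorem odd_Zt (H : Hyp Ω z k) (ht : Bad Ω t) : Odd (Nat.card (Zt Ω z t)) := by
  obtain ⟨-, a, b, hab, ha, hb⟩ := id ht
  obtain ⟨U, hU⟩ := (H.sz t ht).unip a ha
  have hZL : Zt Ω z t ≤ Lt z t := inf_le_left
  have hVU := H.V_le_U hU
  have hVL : H.V a ≤ Lt z t := hVU.trans hU.le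
  rw [← card_subgroupOf' hZL]
  have hZc : (Zt Ω z t).subgroupOf (Lt z t) ≤ center (Lt z t) := by
    intro x hx
    rw [mem_center_iff]
    intro g
    exact Subtype.ext (H.Zt_comm ht (mem_subgroupOf.mp hx) g.2).symm
  have hVZ : ∀ x : Lt z t, x ∈ (H.V a).subgroupOf (Lt z t) ⊔ (Zt Ω z t).subgroupOf (Lt z t) ↔
      H.InVZ t a x := by
    intro x
    have hZn : ((Zt Ω z t).subgroupOf (Lt z t)).Normal := ⟨fun n hn g => by
      have h1 := mem_center_iff.mp (hZc hn) g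
      rw [h1]; simpa using hn⟩
    rw [mem_sup_of_normal_right]
    constructor
    · rintro ⟨v, hv, ζ, hζ, rfl⟩
      rw [mem_subgroupOf] at hv hζ
      refine ⟨(v : G)⁻¹, inv_mem hv, ?_⟩
      have h1 : (v : G)⁻¹ * ((v * ζ : Lt z t) : G) = ζ := by push_cast; group
      rw [h1]
      exact hζ.2
    · rintro ⟨v, hv, hvx⟩
      refine ⟨⟨v⁻¹, inv_mem (hVL hv)⟩, mem_subgroupOf.mpr (inv_mem hv),
        ⟨v * x, mul_mem (hVL hv) x.2⟩, mem_subgroupOf.mpr ⟨mul_mem (hVL hv) x.2, hvx⟩, ?_⟩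
      exact Subtype.ext (by simp)
  refine Odd.odd_card_of_central (U := U.subgroupOf (Lt z t))
    (V := (H.V a).subgroupOf (Lt z t)) (H.Lt_perfect ht) hZc ?_ ?_ ?_ ?_ H.oddk ?_ ?_ ?_ ?_ ?_
  · intro x hx
    exact mem_subgroupOf.mpr (hU.ker_le (mem_subgroupOf.mp hx))
  · intro x hx
    exact mem_subgroupOf.mpr (hVU (mem_subgroupOf.mp hx))
  · rw [eq_bot_iff]
    rintro x ⟨hx1, hx2⟩
    rw [mem_bot]
    exact Subtype.ext (H.V_inf_Kt ht (mem_subgroupOf.mp hx2) (mem_subgroupOf.mp hx1).2)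
  · -- the index of `U` is odd
    have h1 := Odd.card_mul_relIndex' hU.le
    rw [H.card_U ht ha hU, H.card_Lt ht] at h1
    have h2 : (2 ^ k) ^ 2 * Nat.card (Zt Ω z t) * U.relIndex (Lt z t) =
        (2 ^ k) ^ 2 * Nat.card (Zt Ω z t) * (((2 ^ k) ^ 2 + 1) * (2 ^ k - 1)) := by
      rw [h1]; ring
    have h3 := Nat.eq_of_mul_eq_mul_left (Nat.mul_pos (by positivity) Nat.card_pos) h2
    have h4 : (U.subgroupOf (Lt z t)).index = ((2 ^ k) ^ 2 + 1) * (2 ^ k - 1) := h3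
    rw [h4]
    have h5 : Even (2 ^ k) := Nat.even_pow.mpr ⟨even_two, by have := H.k3; omega⟩
    refine Odd.mul (Even.add_one (Nat.even_pow.mpr ⟨h5, by norm_num⟩)) ?_
    exact Nat.Even.sub_odd (by have := H.q8; omega) h5 odd_one
  · rw [card_subgroupOf' hU.le, card_subgroupOf' hZL, H.card_U ht ha hU]
  · rw [card_subgroupOf' hVL, H.card_V]
  · intro u hu v hv
    exact Subtype.ext (H.U_comm_V ht hU (mem_subgroupOf.mp hu) (mem_subgroupOf.mp hv))
  · intro x hx y hy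
    rw [hVZ]
    exact H.InVZ_commutator ht hU (mem_subgroupOf.mp hx) (mem_subgroupOf.mp hy)
  · intro x hx y hy hxn hyn
    rw [hVZ] at hxn hyn
    obtain ⟨h, hh, hxy⟩ := H.torus_trans_U ht ha hb hab hU (mem_subgroupOf.mp hx)
      (mem_subgroupOf.mp hy) hxn hyn
    have hha : h • a = a := hh.2.1
    have hha' : h⁻¹ • a = a := by rw [inv_smul_eq_iff]; exact hha.symm
    refine ⟨⟨h, hh.1⟩, ?_, ?_, ?_⟩
    · intro u
      rw [mem_subgroupOf, mem_subgroupOf]
      constructor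
      · intro hu
        have := hU.normal h⁻¹ (inv_mem hh.1) hha' _ hu
        convert this using 1
        push_cast
        group
      · intro hu
        exact hU.normal h hh.1 hha _ hu
    · intro v
      rw [mem_subgroupOf, mem_subgroupOf]
      constructor
      · intro hv
        have := H.V_conj_fix hv hha'
        convert this using 1
        push_cast
        group
      · intro hv
        exact H.V_conj_fix hv hha
    · rw [hVZ]
      exact hxy

/-! ### Outside `Fix t` -/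

omit [Finite G] in
theorem arith_off (q : ℕ) (hq : 1 ≤ q) :
    1 + q ^ 3 * (q ^ 2 - q + 1) = (q ^ 2 + 1) + (q ^ 2 + 1) * (q ^ 2 * (q - 1)) := by
  obtain ⟨m, rfl⟩ : ∃ m, q = m + 1 := ⟨q - 1, by omega⟩
  have h1 : (m + 1) ^ 2 - (m + 1) = m * (m + 1) := by
    rw [Nat.sub_eq_iff_eq_add (by nlinarith)]
    ring
  rw [h1, Nat.add_sub_cancel]
  ring

theorem card_off (H : Hyp Ω z k) (ht : Bad Ω t) :
    Nat.card {c : Ω // t • c ≠ c} = ((2 ^ k) ^ 2 + 1) * ((2 ^ k) ^ 2 * (2 ^ k - 1)) := by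
  classical
  have := H.setup.finite_points
  have : Fintype Ω := Fintype.ofFinite Ω
  have h1 := H.cardFix t ht
  have h2 := H.cardPts
  rw [arith_off _ H.q_pos] at h2
  have h3 : Nat.card {c : Ω // t • c ≠ c} = Nat.card Ω - Nat.card {c : Ω // t • c = c} := by
    rw [Nat.card_eq_fintype_card, Nat.card_eq_fintype_card, Nat.card_eq_fintype_card]
    exact Fintype.card_subtype_compl _
  omega

theorem card_atC (H : Hyp Ω z k) (ht : Bad Ω t) {a : Ω} (ha : t • a = a) :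
    Nat.card (AtC z t a) = 2 ^ k - 1 := by
  rw [← H.card_at a]
  congr 2
  ext d
  exact ⟨fun h => h.1, fun h => ⟨h, H.cent t ht a ha d h⟩⟩

/-- for `c ∉ Fix t` there is exactly one `x ∈ D ∩ C(t)` with `x c = t c` -/
theorem exists_swC (H : Hyp Ω z k) (ht : Bad Ω t) {c : Ω} (hc : t • c ≠ c) :
    ∃ x ∈ SwC z t c, ∀ y ∈ SwC z t c, y = x := by
  obtain ⟨-, a, b, hab, ha, hb⟩ := id ht
  have h1 := count_r H.setup ht.mul_self (fun y hy hyt => H.isConj_mul ht hy hyt) ha hc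
  rw [H.cardFix t ht, H.card_atC ht ha, H.cardPts, arith_off _ H.q_pos, Nat.add_sub_cancel_left,
    Nat.add_sub_cancel] at h1
  have h2 : ((2 ^ k) ^ 2 + 1) * ((2 ^ k) ^ 2 * (2 ^ k - 1)) * Nat.card (SwC z t c) =
      ((2 ^ k) ^ 2 + 1) * ((2 ^ k) ^ 2 * (2 ^ k - 1)) * 1 := by rw [h1]; ring
  have h3 := Nat.eq_of_mul_eq_mul_left (by
    have := H.q1_pos
    have := H.q_pos
    positivity) h2
  obtain ⟨hs, ⟨x⟩⟩ := Nat.card_eq_one_iff_unique.mp h3
  exact ⟨x, x.2, fun y hy => congrArg Subtype.val (hs.elim ⟨y, hy⟩ x)⟩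

/-- an element of `L_t` fixing a point outside `Fix t` is in the kernel -/
theorem stab_le_Kt (H : Hyp Ω z k) (ht : Bad Ω t) {c : Ω} (hc : t • c ≠ c) {g : G}
    (hg : g ∈ Lt z t) (hgc : g • c = c) : g ∈ Kt Ω t := by
  obtain ⟨x, ⟨⟨hx, hxc⟩, hxt⟩, huniq⟩ := H.exists_swC ht hc
  have hgt := H.Lt_comm hg
  -- `g` commutes with `x`
  have hgx : Commute g x := by
    have h1 : g * x * g⁻¹ = x := by
      apply huniq
      refine ⟨⟨conj_mem hx g, ?_⟩, ?_⟩
      · have hgc' : g⁻¹ • c = c := by rw [inv_smul_eq_iff, hgc]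
        rw [mul_smul, mul_smul, hgc', hxc, smul_smul, hgt.eq, mul_smul, hgc]
      · have h2 : g * t * g⁻¹ = t := by rw [hgt.eq]; group
        show g * x * g⁻¹ * t = t * (g * x * g⁻¹)
        calc g * x * g⁻¹ * t = g * x * g⁻¹ * (g * t * g⁻¹) := by rw [h2]
          _ = g * (x * t) * g⁻¹ := by group
          _ = g * (t * x) * g⁻¹ := by rw [hxt.eq]
          _ = (g * t * g⁻¹) * (g * x * g⁻¹) := by group
          _ = _ := by rw [h2]
    show g * x = x * g
    calc g * x = (g * x * g⁻¹) * g := by group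
      _ = x * g := by rw [h1]
  obtain ⟨e, he⟩ := H.setup.ex hx
  have hte : t • e = e := H.setup.fix_of_commute hx hxt.symm he
  have hge : g • e = e := H.setup.fix_of_commute hx hgx he
  have hxe : x ∈ At z e := ⟨hx, he⟩
  have hce : c ≠ e := by rintro rfl; exact hc hte
  obtain ⟨b, hb, hbe⟩ := H.exists_ne ht e
  obtain ⟨U, hU⟩ := (H.sz t ht).unip e hte
  -- `g ∈ U`
  have hgU : g ∈ U := by
    have h1 : g • b ≠ e := by
      intro h
      apply hbe
      exact smul_left_cancel g (h.trans hge.symm)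
    obtain ⟨u, hu, hub⟩ := hU.trans b (g • b) hb (H.Lt_smul hg hb) hbe h1
    have h2 : u⁻¹ * g ∈ Tt z t e b := by
      refine ⟨(Lt z t).mul_mem ((Lt z t).inv_mem (hU.le hu)) hg, ?_, ?_⟩
      · show (u⁻¹ * g) • e = e
        rw [mul_smul, hge, inv_smul_eq_iff]; exact (hU.fix u hu).symm
      · show (u⁻¹ * g) • b = b
        rw [mul_smul, inv_smul_eq_iff, hub]
    have hux : u⁻¹ * x = x * u⁻¹ := H.U_comm_V ht hU (U.inv_mem hu) (H.mem_V_of_at hxe)
    have h3 : Commute (u⁻¹ * g) x := by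
      show u⁻¹ * g * x = x * (u⁻¹ * g)
      calc u⁻¹ * g * x = u⁻¹ * (g * x) := by group
        _ = (u⁻¹ * x) * g := by rw [hgx.eq]; group
        _ = _ := by rw [hux]; group
    have h4 : u⁻¹ * g ∈ U := hU.ker_le ⟨h2.1, H.torus_semireg ht hte hb (Ne.symm hbe) hxe h2 h3⟩
    have h5 : g = u * (u⁻¹ * g) := by group
    rw [h5]
    exact mul_mem hu h4
  -- the order of `g` is odd
  have hodd : Odd (orderOf g) := by
    by_contra heven
    rw [Nat.not_odd_iff_even] at heven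
    obtain ⟨j, hj⟩ := heven
    have hpos := orderOf_pos g
    have hi1 : g ^ j ≠ 1 := by
      intro h
      have := Nat.le_of_dvd (by omega) (orderOf_dvd_of_pow_eq_one h)
      omega
    have hii : g ^ j * g ^ j = 1 := by rw [← pow_add, ← hj, pow_orderOf_eq_one]
    have hiU : g ^ j ∈ U := pow_mem hgU j
    obtain ⟨v, hv, hvi⟩ := H.InVZ_of_sq ht hU hiU (by rw [hii]; exact one_mem _)
    have h1 : (v * g ^ j) * (v * g ^ j) = 1 := by
      have h2 := H.U_comm_V ht hU hiU hv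
      calc (v * g ^ j) * (v * g ^ j) = v * (g ^ j * v) * g ^ j := by group
        _ = v * (v * g ^ j) * g ^ j := by rw [h2]
        _ = (v * v) * (g ^ j * g ^ j) := by group
        _ = 1 := by rw [hii, H.V_sq hv, mul_one]
    have h2 : v * g ^ j = 1 := by
      have hmem : v * g ^ j ∈ Zt Ω z t := ⟨hU.le (mul_mem (H.V_le_U hU hv) hiU), hvi⟩
      have h3 : orderOf (⟨v * g ^ j, hmem⟩ : Zt Ω z t) ∣ 2 := by
        apply orderOf_dvd_of_pow_eq_one
        exact Subtype.ext (by rw [pow_two]; exact h1)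
      have h4 : orderOf (⟨v * g ^ j, hmem⟩ : Zt Ω z t) ∣ Nat.card (Zt Ω z t) :=
        orderOf_dvd_natCard _
      rcases (Nat.dvd_prime Nat.prime_two).mp h3 with h5 | h5
      · rw [orderOf_eq_one_iff] at h5
        exact congrArg Subtype.val h5
      · rw [h5] at h4
        have := H.odd_Zt ht
        rw [← Nat.not_even_iff_odd, even_iff_two_dvd] at this
        exact absurd h4 this
    have h3 : g ^ j = v⁻¹ := eq_inv_of_mul_eq_one_right h2
    have h4 : g ^ j ∈ H.V e := by rw [h3]; exact inv_mem hv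
    have h5 : (g ^ j) • c = c := by
      clear hpos hi1 hii hiU hvi h1 h2 h3 h4 hj
      induction j with
      | zero => rw [pow_zero, one_smul]
      | succ j ih => rw [pow_succ, mul_smul, hgc, ih]
    exact hi1 (H.V_free h4 h5 hce)
  -- `g ^ (q²) ∈ Z`
  have hZn : ((Zt Ω z t).subgroupOf U).Normal := ⟨fun n hn u => by
    rw [mem_subgroupOf] at hn ⊢
    have h1 := H.Zt_comm ht hn (hU.le u.2)
    have h2 : ((u * n * u⁻¹ : U) : G) = n := by
      push_cast
      rw [← h1]; group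
    rw [h2]; exact hn⟩
  have h1 : ((Zt Ω z t).subgroupOf U).index = (2 ^ k) ^ 2 := by
    have h2 := Odd.card_mul_relIndex' hU.ker_le
    rw [H.card_U ht hte hU] at h2
    have h3 : Nat.card (Zt Ω z t) * (Zt Ω z t).relIndex U =
        Nat.card (Zt Ω z t) * (2 ^ k) ^ 2 := by rw [h2]; ring
    exact Nat.eq_of_mul_eq_mul_left Nat.card_pos h3
  have h2 := ((Zt Ω z t).subgroupOf U).pow_index_mem ⟨g, hgU⟩
  rw [h1, mem_subgroupOf] at h2
  have h3 : g ^ ((2 ^ k) ^ 2) ∈ Zt Ω z t := h2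
  have hcop : (orderOf g).Coprime ((2 ^ k) ^ 2) := by
    apply Nat.Coprime.pow_right
    apply Nat.Coprime.pow_right
    exact hodd.coprime_two_right
  obtain ⟨m, hm⟩ := exists_pow_eq_self_of_coprime hcop.symm
  rw [← hm]
  exact (pow_mem h3 m : _ ∈ Zt Ω z t).2

/-- the kernel of `L_t` on `Fix t` is trivial -/
theorem Zt_eq_bot (H : Hyp Ω z k) (ht : Bad Ω t) : Zt Ω z t = ⊥ := by
  classical
  have := H.setup.finite_points
  rw [eq_bot_iff]
  intro ζ hζ
  rw [mem_bot]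
  apply H.faith
  intro c
  by_cases hc : t • c = c
  · exact hζ.2 c hc
  -- `L_c ≤ Z`, and `|L : L_c| ≤ |Ω - Fix t| = |L : Z|`
  have h1 := (stabilizer (Lt z t) c).card_mul_index
  rw [index_stabilizer] at h1
  have h2 : (orbit (Lt z t) c).ncard ≤ ((2 ^ k) ^ 2 + 1) * ((2 ^ k) ^ 2 * (2 ^ k - 1)) := by
    rw [← H.card_off ht]
    have h3 : Nat.card {c : Ω // t • c ≠ c} = ({c : Ω | t • c ≠ c} : Set Ω).ncard :=
      Nat.card_coe_set_eq _
    rw [h3]
    refine Set.ncard_le_ncard ?_ (Set.toFinite _)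
    rintro _ ⟨g, rfl⟩
    intro h
    apply hc
    have h4 : t • ((g : G) • c) = (g : G) • c := h
    have h5 := H.Lt_smul (inv_mem g.2) h4
    rwa [inv_smul_smul] at h5
  have h3 : Nat.card (Zt Ω z t) ≤ Nat.card (stabilizer (Lt z t) c) := by
    rw [H.card_Lt ht] at h1
    by_contra hlt
    push Not at hlt
    have hpos : 0 < ((2 ^ k) ^ 2 + 1) * ((2 ^ k) ^ 2 * (2 ^ k - 1)) := by
      have := H.q1_pos
      have := H.q_pos
      positivity
    have h5 : Nat.card (stabilizer (Lt z t) c) * (orbit (Lt z t) c).ncard <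
        Nat.card (Zt Ω z t) * (((2 ^ k) ^ 2 + 1) * ((2 ^ k) ^ 2 * (2 ^ k - 1))) :=
      calc _ ≤ Nat.card (stabilizer (Lt z t) c) * (((2 ^ k) ^ 2 + 1) * ((2 ^ k) ^ 2 * (2 ^ k - 1))) :=
            Nat.mul_le_mul_left _ h2
        _ < _ := Nat.mul_lt_mul_of_pos_right hlt hpos
    rw [h1] at h5
    have h6 : Nat.card (Zt Ω z t) * (((2 ^ k) ^ 2 + 1) * ((2 ^ k) ^ 2 * (2 ^ k - 1))) =
      ((2 ^ k) ^ 2 + 1) * ((2 ^ k) ^ 2 * ((2 ^ k - 1) * Nat.card (Zt Ω z t))) := by ring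
    rw [h6] at h5
    exact lt_irrefl _ h5
  have h4 : (stabilizer (Lt z t) c).map (Lt z t).subtype ≤ Zt Ω z t := by
    rintro _ ⟨g, hg, rfl⟩
    exact ⟨g.2, H.stab_le_Kt ht hc g.2 hg⟩
  have h5 : Nat.card ((stabilizer (Lt z t) c).map (Lt z t).subtype) =
      Nat.card (stabilizer (Lt z t) c) := card_map_of_injective (Lt z t).subtype_injective
  have h6 := eq_of_le_of_card_ge h4 (by rw [h5]; exact h3)
  rw [← h6] at hζ
  obtain ⟨g, hg, rfl⟩ := hζ
  exact hg

theorem off_free (H : Hyp Ω z k) (ht : Bad Ω t) {c : Ω} (hc : t • c ≠ c) {g : G}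
    (hg : g ∈ Lt z t) (hgc : g • c = c) : g = 1 := by
  have h1 : g ∈ Zt Ω z t := ⟨hg, H.stab_le_Kt ht hc hg hgc⟩
  rwa [H.Zt_eq_bot ht, mem_bot] at h1

theorem card_Lt' (H : Hyp Ω z k) (ht : Bad Ω t) : Nat.card (Lt z t) =
    ((2 ^ k) ^ 2 + 1) * ((2 ^ k) ^ 2 * (2 ^ k - 1)) := by
  rw [H.card_Lt ht, H.Zt_eq_bot ht, card_bot, mul_one]

theorem off_trans (H : Hyp Ω z k) (ht : Bad Ω t) {c d : Ω} (hc : t • c ≠ c) (hd : t • d ≠ d) :
    ∃ g ∈ Lt z t, g • c = d := by
  classical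
  have := H.setup.finite_points
  let f : Lt z t → {c : Ω // t • c ≠ c} := fun g => ⟨(g : G) • c, by
    intro h
    apply hc
    have h5 := H.Lt_smul (inv_mem g.2) h
    rwa [inv_smul_smul] at h5⟩
  have hinj : Function.Injective f := by
    intro g h hgh
    have h1 : (g : G) • c = (h : G) • c := congrArg Subtype.val hgh
    have h2 : (g : G)⁻¹ * h = 1 := H.off_free ht hc (mul_mem (inv_mem g.2) h.2) (by
      rw [mul_smul, ← h1, inv_smul_smul])
    exact Subtype.ext (inv_mul_eq_one.mp h2)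
  have hbij := (Nat.bijective_iff_injective_and_card f).mpr ⟨hinj, by
    rw [H.card_Lt' ht, H.card_off ht]⟩
  obtain ⟨g, hg⟩ := hbij.2 ⟨d, hd⟩
  exact ⟨g, g.2, congrArg Subtype.val hg⟩

/-- `K_t` is semiregular outside `Fix t` -/
theorem Kt_free (H : Hyp Ω z k) (ht : Bad Ω t) {c : Ω} (hc : t • c ≠ c) {g : G}
    (hg : g ∈ Kt Ω t) (hgc : g • c = c) : g = 1 := by
  apply H.faith
  intro d
  by_cases hd : t • d = d
  · exact hg d hd
  · obtain ⟨l, hl, rfl⟩ := H.off_trans ht hc hd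
    rw [smul_smul, (H.Kt_comm_Lt ht hg hl).eq, mul_smul, hgc]

theorem Kt_fix_iff (H : Hyp Ω z k) (ht : Bad Ω t) {g : G} (hg : g ∈ Kt Ω t) (hg1 : g ≠ 1)
    {c : Ω} : g • c = c ↔ t • c = c := by
  constructor
  · intro h
    by_contra hc
    exact hg1 (H.Kt_free ht hc hg h)
  · exact hg c

/-- number of fixed points modulo `p` of an element of order `p` -/
theorem card_fix_modEq {p : ℕ} [hp : Fact p.Prime] [Finite Ω] {g : G} (hg : g ^ p = 1) :
    Nat.card Ω ≡ Nat.card {c : Ω // g • c = c} [MOD p] := by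
  classical
  have : Fintype Ω := Fintype.ofFinite Ω
  have hP : IsPGroup p (zpowers g) := by
    intro x
    obtain ⟨x, hx⟩ := x
    obtain ⟨j, rfl⟩ := mem_zpowers_iff.mp hx
    refine ⟨1, Subtype.ext ?_⟩
    show (g ^ j) ^ (p ^ 1) = 1
    rw [pow_one, ← zpow_natCast, ← zpow_mul, mul_comm, zpow_mul, zpow_natCast, hg, one_zpow]
  have h1 := hP.card_modEq_card_fixedPoints Ω
  have h2 : Nat.card (fixedPoints (zpowers g) Ω) = Nat.card {c : Ω // g • c = c} := by
    refine Nat.card_congr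
      { toFun := fun x => ⟨x.1, x.2 ⟨g, mem_zpowers g⟩⟩
        invFun := fun x => ⟨x.1, ?_⟩
        left_inv := fun _ => rfl
        right_inv := fun _ => rfl }
    rintro ⟨y, hy⟩
    obtain ⟨j, rfl⟩ := mem_zpowers_iff.mp hy
    show g ^ j • x.1 = x.1
    have h3 : g ∈ stabilizer G x.1 := x.2
    exact (zpow_mem h3 j : _ ∈ stabilizer G x.1)
  rw [h2] at h1
  exact h1

/-- A prime `p` not dividing `q` and dividing `q² - q + 1` does not divide `|K_t|`. -/
theorem not_dvd_Kt (H : Hyp Ω z k) (ht : Bad Ω t) {p : ℕ} (hp : p.Prime) (hp2 : ¬ p ∣ 2)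
    (hpq : p ∣ (2 ^ k) ^ 2 - 2 ^ k + 1) : ¬ p ∣ Nat.card (Kt Ω t) := by
  intro hdvd
  have := H.setup.finite_points
  have hp' : Fact p.Prime := ⟨hp⟩
  obtain ⟨x, hx⟩ := exists_prime_orderOf_dvd_card' p hdvd
  have hx1 : (x : G) ≠ 1 := by
    intro h
    have : x = 1 := Subtype.ext h
    rw [this, orderOf_one] at hx
    exact hp.one_lt.ne hx
  have hxp : (x : G) ^ p = 1 := by
    rw [← hx]; exact congrArg Subtype.val (pow_orderOf_eq_one x)
  have h1 := card_fix_modEq (Ω := Ω) hxp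
  have h2 : Nat.card {c : Ω // (x : G) • c = c} = (2 ^ k) ^ 2 + 1 := by
    rw [← H.cardFix t ht]
    congr 1
    have : (fun c : Ω => (x : G) • c = c) = fun c => t • c = c := by
      funext c; exact propext (H.Kt_fix_iff ht x.2 hx1)
    simp only [this]
  rw [h2, H.cardPts] at h1
  have h3 : 1 + (2 ^ k) ^ 3 * ((2 ^ k) ^ 2 - 2 ^ k + 1) ≡ 1 + 0 [MOD p] :=
    Nat.ModEq.add_left 1 ((Nat.modEq_zero_iff_dvd).mpr (Dvd.dvd.mul_left hpq _))
  have h4 : 0 + 1 ≡ (2 ^ k) ^ 2 + 1 [MOD p] := by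
    rw [add_comm 0 1]; exact h3.symm.trans h1
  have h5 : 0 ≡ (2 ^ k) ^ 2 [MOD p] := Nat.ModEq.add_right_cancel' 1 h4
  have h6 : p ∣ (2 ^ k) ^ 2 := (Nat.modEq_zero_iff_dvd).mp h5.symm
  exact hp2 (hp.dvd_of_dvd_pow (hp.dvd_of_dvd_pow h6))

end Hyp

end Cfsg.Agent.AschCrit.CommFour
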