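import Mathlib
import Cfsg.Agent.AschCrit.CommFour.Regular

/-!
# `C_G(V_a) ∩ G_b = K_t`
-/

set_option autoImplicit false

namespace Cfsg.Agent.AschCrit.CommFour

open Subgroup MulAction
open scoped commutatorElement
open Cfsg.Agent.TwoFusion.StronglyEmbeddedBasic Cfsg.Agent.AschCrit.Basic
open Cfsg.Agent.AschCrit.Basic.Setup Cfsg.Agent.AschCrit.Closed Cfsg.Agent.AschCrit.Count

namespace Hyp

variable {G Ω : Type*} [Group G] [Finite G] [MulAction G Ω] {z : G} {k : ℕ} {t : G}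

theorem exists_bad (H : Hyp Ω z k) {a b : Ω} (hab : a ≠ b) :
    ∃ t : G, Bad Ω t ∧ t • a = a ∧ t • b = b := by
  obtain ⟨t, ht⟩ := H.bad
  obtain ⟨-, p, q, hpq, hp, hq⟩ := id ht
  obtain ⟨g, hga, hgb⟩ := H.two p q a b hpq hab
  refine ⟨g * t * g⁻¹, ht.conj g, ?_, ?_⟩
  · rw [← hga, mul_smul, mul_smul, inv_smul_smul, hp]
  · rw [← hgb, mul_smul, mul_smul, inv_smul_smul, hq]

/-- an element fixing two points of `Fix t` maps `Fix t` onto itself -/
theorem smul_line (H : Hyp Ω z k) (ht : Bad Ω t) {a b : Ω} (ha : t • a = a) (hb : t • b = b)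
    (hab : a ≠ b) {g : G} (hga : g • a = a) (hgb : g • b = b) {c : Ω} (hc : t • c = c) :
    t • (g • c) = g • c := by
  have hga' : g⁻¹ • a = a := by rw [inv_smul_eq_iff, hga]
  have hgb' : g⁻¹ • b = b := by rw [inv_smul_eq_iff, hgb]
  refine H.line (g * t * g⁻¹) t (ht.conj g) ht a b hab ?_ ?_ ha hb (g • c) ?_
  · rw [mul_smul, mul_smul, hga', ha, hga]
  · rw [mul_smul, mul_smul, hgb', hb, hgb]
  · rw [mul_smul, mul_smul, inv_smul_smul, hc]

/-- an element mapping `Fix t` to itself normalises `L_t` -/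
theorem conj_Lt (H : Hyp Ω z k) (ht : Bad Ω t) {g : G}
    (hg : ∀ c : Ω, t • c = c → t • (g • c) = g • c) {x : G} (hx : x ∈ Lt z t) :
    g * x * g⁻¹ ∈ Lt z t := by
  have h1 : Lt z t ≤ (Lt z t).comap (MulAut.conj g).toMonoidHom := by
    conv_lhs => rw [Lt]
    rw [closure_le]
    rintro d ⟨hd, hdt⟩
    obtain ⟨c, hc⟩ := H.setup.ex hd
    have htc := H.setup.fix_of_commute hd hdt.symm hc
    have h2 : g * d * g⁻¹ ∈ At z (g • c) := conj_mem_At g ⟨hd, hc⟩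
    have h3 : g * d * g⁻¹ ∈ Lt z t :=
      subset_closure ⟨h2.1, H.cent t ht _ (hg c htc) _ h2⟩
    exact h3
  exact h1 hx

theorem conj_Kt (H : Hyp Ω z k) (ht : Bad Ω t) {a b : Ω} (ha : t • a = a) (hb : t • b = b)
    (hab : a ≠ b) {g : G} (hga : g • a = a) (hgb : g • b = b) {x : G} (hx : x ∈ Kt Ω t) :
    g * x * g⁻¹ ∈ Kt Ω t := by
  intro c hc
  have hga' : g⁻¹ • a = a := by rw [inv_smul_eq_iff, hga]
  have hgb' : g⁻¹ • b = b := by rw [inv_smul_eq_iff, hgb]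
  rw [mul_smul, mul_smul, hx _ (H.smul_line ht ha hb hab hga' hgb' hc), smul_inv_smul]

theorem conj_Tt (H : Hyp Ω z k) (ht : Bad Ω t) {a b : Ω} (ha : t • a = a) (hb : t • b = b)
    (hab : a ≠ b) {g : G} (hga : g • a = a) (hgb : g • b = b) {x : G} (hx : x ∈ Tt z t a b) :
    g * x * g⁻¹ ∈ Tt z t a b := by
  have hga' : g⁻¹ • a = a := by rw [inv_smul_eq_iff, hga]
  have hgb' : g⁻¹ • b = b := by rw [inv_smul_eq_iff, hgb]
  refine ⟨H.conj_Lt ht (fun c hc => H.smul_line ht ha hb hab hga hgb hc) hx.1, ?_, ?_⟩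
  · show (g * x * g⁻¹) • a = a
    rw [mul_smul, mul_smul, hga', show x • a = a from hx.2.1, hga]
  · show (g * x * g⁻¹) • b = b
    rw [mul_smul, mul_smul, hgb', show x • b = b from hx.2.2, hgb]

theorem eq_one_of_Lt_Kt (H : Hyp Ω z k) (ht : Bad Ω t) {x : G} (hx : x ∈ Lt z t)
    (hx' : x ∈ Kt Ω t) : x = 1 := by
  have h1 : x ∈ Zt Ω z t := ⟨hx, hx'⟩
  rwa [H.Zt_eq_bot ht, mem_bot] at h1

theorem torus_eq_one (H : Hyp Ω z k) (ht : Bad Ω t) {a b : Ω} (ha : t • a = a) (hb : t • b = b)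
    (hab : a ≠ b) {v : G} (hv : v ∈ At z a) {h : G} (hh : h ∈ Tt z t a b) (hc : Commute h v) :
    h = 1 := H.eq_one_of_Lt_Kt ht hh.1 (H.torus_semireg ht ha hb hab hv hh hc)

theorem card_Tt (H : Hyp Ω z k) (ht : Bad Ω t) {a b : Ω} (ha : t • a = a) (hb : t • b = b)
    (hab : a ≠ b) : Nat.card (Tt z t a b) = 2 ^ k - 1 := by
  rw [(H.sz t ht).card_torus a b ha hb hab, H.Zt_eq_bot ht, card_bot, mul_one]

theorem Tt_comm (H : Hyp Ω z k) (ht : Bad Ω t) {a b : Ω} (ha : t • a = a) (hb : t • b = b)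
    (hab : a ≠ b) {g h : G} (hg : g ∈ Tt z t a b) (hh : h ∈ Tt z t a b) : g * h = h * g := by
  rw [← commutatorElement_eq_one_iff_mul_comm]
  refine H.eq_one_of_Lt_Kt ht ?_ ((H.sz t ht).comm_torus a b ha hb hab g hg h hh)
  rw [commutatorElement_def]
  exact mul_mem (mul_mem (mul_mem hg.1 hh.1) (inv_mem hg.1)) (inv_mem hh.1)

theorem InVZ_iff (H : Hyp Ω z k) (ht : Bad Ω t) {a : Ω} (ha : t • a = a) {x : G}
    (hx : x ∈ Lt z t) : H.InVZ t a x ↔ x ∈ H.V a := by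
  constructor
  · rintro ⟨v, hv, hvx⟩
    have h1 := H.eq_one_of_Lt_Kt ht (mul_mem (H.V_le_Lt ht ha hv) hx) hvx
    rw [eq_inv_of_mul_eq_one_right h1]
    exact inv_mem hv
  · intro h
    exact ⟨x⁻¹, inv_mem h, by rw [inv_mul_cancel]; exact one_mem _⟩

section U

variable {a : Ω} {U : Subgroup G}

theorem sq_mem_V (H : Hyp Ω z k) (ht : Bad Ω t) (ha : t • a = a) (hU : IsU z t a U) {u : G}
    (hu : u ∈ U) : u * u ∈ H.V a :=
  (H.InVZ_iff ht ha (mul_mem (hU.le hu) (hU.le hu))).mp (H.InVZ_sq ht hU hu)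

theorem mem_V_of_sq (H : Hyp Ω z k) (ht : Bad Ω t) (ha : t • a = a) (hU : IsU z t a U) {u : G}
    (hu : u ∈ U) (h : u * u = 1) : u ∈ H.V a :=
  (H.InVZ_iff ht ha (hU.le hu)).mp (H.InVZ_of_sq ht hU hu (by rw [h]; exact one_mem _))

theorem torus_trans_U' (H : Hyp Ω z k) (ht : Bad Ω t) {b : Ω} (ha : t • a = a)
    (hb : t • b = b) (hab : a ≠ b) (hU : IsU z t a U) {x y : G} (hx : x ∈ U) (hy : y ∈ U)
    (hxn : x ∉ H.V a) (hyn : y ∉ H.V a) :
    ∃ h ∈ Tt z t a b, ∃ v ∈ H.V a, h * x * h⁻¹ = v * y := by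
  rw [← H.InVZ_iff ht ha (hU.le hx)] at hxn
  rw [← H.InVZ_iff ht ha (hU.le hy)] at hyn
  obtain ⟨h, hh, h1⟩ := H.torus_trans_U ht ha hb hab hU hx hy hxn hyn
  refine ⟨h, hh, h * x * h⁻¹ * y⁻¹, ?_, by group⟩
  rwa [H.InVZ_iff ht ha] at h1
  exact hU.le (mul_mem (hU.normal h hh.1 hh.2.1 x hx) (inv_mem hy))

theorem card_U' (H : Hyp Ω z k) (ht : Bad Ω t) (ha : t • a = a) (hU : IsU z t a U) :
    Nat.card U = (2 ^ k) ^ 2 := by
  rw [H.card_U ht ha hU, H.Zt_eq_bot ht, card_bot, mul_one]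

/-- `U` is the set of elements of `L_a` of order dividing `q²` -/
theorem mem_U_iff (H : Hyp Ω z k) (ht : Bad Ω t) (ha : t • a = a) (hU : IsU z t a U) {u : G} :
    u ∈ U ↔ u ∈ Lt z t ∧ u • a = a ∧ u ^ ((2 ^ k) ^ 2) = 1 := by
  constructor
  · intro hu
    refine ⟨hU.le hu, hU.fix u hu, ?_⟩
    rw [← H.card_U' ht ha hU]
    have := pow_card_eq_one' (x := (⟨u, hu⟩ : U))
    exact congrArg Subtype.val this
  · rintro ⟨huL, hua, hpow⟩
    obtain ⟨b, hb, hba⟩ := H.exists_ne ht a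
    have hUa : U ≤ Lt z t ⊓ stabilizer G a := fun x hx => ⟨hU.le hx, hU.fix x hx⟩
    have hn : (U.subgroupOf (Lt z t ⊓ stabilizer G a)).Normal := ⟨fun n hn g => by
      rw [mem_subgroupOf] at hn ⊢
      exact hU.normal g g.2.1 g.2.2 n hn⟩
    have hidx : (U.subgroupOf (Lt z t ⊓ stabilizer G a)).index = 2 ^ k - 1 := by
      have h1 := Odd.card_mul_relIndex' hUa
      have h2 : Nat.card (Lt z t ⊓ stabilizer G a : Subgroup G) = (2 ^ k) ^ 2 * (2 ^ k - 1) := by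
        have S := H.sz t ht
        rw [card_eq_mul_card_stab (Lt z t ⊓ stabilizer G a) {c : Ω | t • c = c ∧ c ≠ a} (b := b)
          ⟨hb, hba⟩, H.card_line ht ha, inf_assoc, H.card_Tt ht ha hb (Ne.symm hba)]
        · intro g hg c hc
          refine ⟨H.Lt_smul hg.1 hc.1, fun h => hc.2 ?_⟩
          exact smul_left_cancel g (h.trans (show g • a = a from hg.2).symm)
        · intro c hc
          obtain ⟨g, hg, hga, hgb⟩ := S.two a b a c ha hb ha hc.1 (Ne.symm hba) (Ne.symm hc.2)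
          exact ⟨g, ⟨hg, hga⟩, hgb⟩
      rw [h2, H.card_U' ht ha hU] at h1
      exact Nat.eq_of_mul_eq_mul_left (by positivity) h1
    have h1 := (U.subgroupOf (Lt z t ⊓ stabilizer G a)).pow_index_mem ⟨u, huL, hua⟩
    rw [hidx, mem_subgroupOf] at h1
    have h2 : u ^ (2 ^ k - 1) ∈ U := h1
    have hcop : (orderOf u).Coprime (2 ^ k - 1) := by
      refine Nat.Coprime.coprime_dvd_left (orderOf_dvd_of_pow_eq_one hpow) ?_
      apply Nat.Coprime.pow_left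
      have h3 : 1 ≤ 2 ^ k := H.q_pos
      rw [Nat.coprime_comm]
      exact (Nat.coprime_self_sub_left h3).mpr (Nat.coprime_one_left _)
    obtain ⟨m, hm⟩ := exists_pow_eq_self_of_coprime hcop.symm
    rw [← hm]
    exact pow_mem h2 m

end U

/-- `C_G(V_a) ∩ G_b ≤ K_t` for `a ≠ b` in `Fix t` -/
theorem mem_Kt_of_comm (H : Hyp Ω z k) (ht : Bad Ω t) {a b : Ω} (ha : t • a = a)
    (hb : t • b = b) (hab : a ≠ b) {y : G} (hy : ∀ v ∈ H.V a, Commute y v) (hyb : y • b = b) :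
    y ∈ Kt Ω t := by
  obtain ⟨v₀, hv₀⟩ := H.setup.nonempty_At a
  have hya : y • a = a := H.setup.fix_of_commute hv₀.1 (hy v₀ (H.mem_V_of_at hv₀)) hv₀.2
  have hya' : y⁻¹ • a = a := by rw [inv_smul_eq_iff, hya]
  obtain ⟨U, hU⟩ := (H.sz t ht).unip a ha
  have hVU := H.V_le_U hU
  -- `y` normalises `U`
  have hyU : ∀ x ∈ U, y * x * y⁻¹ ∈ U := by
    intro x hx
    rw [H.mem_U_iff ht ha hU] at hx ⊢
    refine ⟨H.conj_Lt ht (fun c hc => H.smul_line ht ha hb hab hya hyb hc) hx.1, ?_, ?_⟩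
    · rw [mul_smul, mul_smul, hya', hx.2.1, hya]
    · rw [conj_pow, hx.2.2]; group
  -- `y` centralises the torus
  have hyT : ∀ h ∈ Tt z t a b, y * h = h * y := by
    intro h hh
    have h1 : h⁻¹ * (y * h * y⁻¹) ∈ Tt z t a b :=
      mul_mem (inv_mem hh) (H.conj_Tt ht ha hb hab hya hyb hh)
    have h2 : Commute (h⁻¹ * (y * h * y⁻¹)) v₀ := by
      have hv := H.mem_V_of_at hv₀
      have h3 : h * v₀ * h⁻¹ ∈ H.V a := H.V_conj_fix hv hh.2.1
      have h4 := (hy _ h3).eq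
      have h5 := (hy v₀ hv).eq
      have h6 : y⁻¹ * v₀ = v₀ * y⁻¹ := (hy v₀ hv).inv_left.eq
      show h⁻¹ * (y * h * y⁻¹) * v₀ = v₀ * (h⁻¹ * (y * h * y⁻¹))
      calc h⁻¹ * (y * h * y⁻¹) * v₀ = h⁻¹ * (y * h * (y⁻¹ * v₀)) := by group
        _ = h⁻¹ * (y * (h * v₀ * h⁻¹)) * h * y⁻¹ := by rw [h6]; group
        _ = h⁻¹ * ((h * v₀ * h⁻¹) * y) * h * y⁻¹ := by rw [h4]
        _ = _ := by group
    have h3 := H.torus_eq_one ht ha hb hab hv₀ h1 h2
    calc y * h = h * (h⁻¹ * (y * h * y⁻¹)) * y := by group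
      _ = h * y := by rw [h3, mul_one]
  -- `x⁻¹ x^y ∈ V`
  have hf : ∀ x ∈ U, x⁻¹ * (y * x * y⁻¹) ∈ H.V a := by
    intro x hx
    have hsq : (y * x * y⁻¹) * (y * x * y⁻¹) = x * x := by
      have h1 := (hy _ (H.sq_mem_V ht ha hU hx)).eq
      calc (y * x * y⁻¹) * (y * x * y⁻¹) = y * (x * x) * y⁻¹ := by group
        _ = (x * x) * y * y⁻¹ := by rw [h1]
        _ = x * x := by group
    by_cases hxV : x ∈ H.V a
    · refine mul_mem (inv_mem hxV) ?_
      exact H.V_conj_fix hxV hya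
    · have hyxV : y * x * y⁻¹ ∉ H.V a := by
        intro h1
        have h2 := H.V_conj_fix h1 hya'
        apply hxV
        convert h2 using 1
        group
      obtain ⟨h, hh, v, hv, hhx⟩ := H.torus_trans_U' ht ha hb hab hU hx (hyU x hx) hxV hyxV
      have h1 : h * (x * x) * h⁻¹ = x * x := by
        have h2 := H.U_comm_V ht hU (hyU x hx) hv
        calc h * (x * x) * h⁻¹ = (h * x * h⁻¹) * (h * x * h⁻¹) := by group
          _ = v * ((y * x * y⁻¹) * v) * (y * x * y⁻¹) := by rw [hhx]; group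
          _ = (v * v) * ((y * x * y⁻¹) * (y * x * y⁻¹)) := by rw [h2]; group
          _ = x * x := by rw [H.V_sq hv, hsq, one_mul]
      have h3 : x * x ≠ 1 := fun h => hxV (H.mem_V_of_sq ht ha hU hx h)
      have h4 : h = 1 := by
        refine H.torus_eq_one ht ha hb hab (H.mem_at (H.sq_mem_V ht ha hU hx) h3) hh ?_
        show h * (x * x) = (x * x) * h
        calc h * (x * x) = (h * (x * x) * h⁻¹) * h := by group
          _ = _ := by rw [h1]
      rw [h4] at hhx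
      have h5 : x = v * (y * x * y⁻¹) := by
        rw [← hhx]; group
      have h6 : x⁻¹ * (y * x * y⁻¹) = v⁻¹ := by
        have h7 := H.U_comm_V ht hU (hyU x hx) (inv_mem hv)
        have h8 : y * x * y⁻¹ = v⁻¹ * x := by
          calc y * x * y⁻¹ = v⁻¹ * (v * (y * x * y⁻¹)) := by group
            _ = v⁻¹ * x := by rw [← h5]
        rw [h8]
        have h9 := H.U_comm_V ht hU hx (inv_mem hv)
        rw [← h9]; group
      rw [h6]; exact inv_mem hv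
  by_contra hyK
  -- some `x₀` is not centralised
  obtain ⟨x₀, hx₀, hx₀y⟩ : ∃ x ∈ U, x⁻¹ * (y * x * y⁻¹) ≠ 1 := by
    by_contra hcon
    push Not at hcon
    apply hyK
    intro c hc
    by_cases hca : c = a
    · rw [hca, hya]
    · obtain ⟨u, hu, rfl⟩ := hU.trans b c hb hc (Ne.symm hab) hca
      have h1 := hcon u hu
      have h2 : y * u = u * y := by
        calc y * u = u * (u⁻¹ * (y * u * y⁻¹)) * y := by group
          _ = u * y := by rw [h1, mul_one]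
      rw [smul_smul, h2, mul_smul, hyb]
  have hx₀V : x₀ ∉ H.V a := by
    intro h
    apply hx₀y
    have := (hy x₀ h).eq
    rw [this]; group
  have hx₀2 : x₀ * x₀ ≠ 1 := fun h => hx₀V (H.mem_V_of_sq ht ha hU hx₀ h)
  obtain ⟨h₀, hh₀, hh₀x⟩ := H.torus_trans ht ha hb hab (H.mem_at (hf x₀ hx₀) hx₀y)
    (H.mem_at (H.sq_mem_V ht ha hU hx₀) hx₀2)
  -- squaring is `h₀`-conjugation after `x ↦ x⁻¹ x^y`
  have hkey : ∀ x ∈ U, x * x = h₀ * (x⁻¹ * (y * x * y⁻¹)) * h₀⁻¹ := by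
    intro x hx
    by_cases hxV : x ∈ H.V a
    · have h1 := (hy x hxV).eq
      rw [H.V_sq hxV, h1]; group
    · obtain ⟨h, hh, v, hv, hhx⟩ := H.torus_trans_U' ht ha hb hab hU hx₀ hx hx₀V hxV
      have hvy := (hy v hv).eq
      have h1 : x * x = h * (x₀ * x₀) * h⁻¹ := by
        have h2 := H.U_comm_V ht hU hx hv
        symm
        calc h * (x₀ * x₀) * h⁻¹ = (h * x₀ * h⁻¹) * (h * x₀ * h⁻¹) := by group
          _ = v * (x * v) * x := by rw [hhx]; group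
          _ = (v * v) * (x * x) := by rw [h2]; group
          _ = x * x := by rw [H.V_sq hv, one_mul]
      have h3 : x⁻¹ * (y * x * y⁻¹) = h * (x₀⁻¹ * (y * x₀ * y⁻¹)) * h⁻¹ := by
        have h4 := hyT h hh
        have h4' : y⁻¹ * h⁻¹ = h⁻¹ * y⁻¹ := by
          rw [← mul_inv_rev, ← mul_inv_rev, h4]
        have h5 : x = v⁻¹ * (h * x₀ * h⁻¹) := by rw [hhx]; group
        symm
        calc h * (x₀⁻¹ * (y * x₀ * y⁻¹)) * h⁻¹
            = h * x₀⁻¹ * h⁻¹ * (h * y) * x₀ * (y⁻¹ * h⁻¹) := by group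
          _ = h * x₀⁻¹ * h⁻¹ * (y * h) * x₀ * (h⁻¹ * y⁻¹) := by rw [h4, h4']
          _ = (h * x₀ * h⁻¹)⁻¹ * (y * (h * x₀ * h⁻¹) * y⁻¹) := by group
          _ = (v * x)⁻¹ * (y * (v * x) * y⁻¹) := by rw [hhx]
          _ = x⁻¹ * v⁻¹ * (y * v) * x * y⁻¹ := by group
          _ = x⁻¹ * v⁻¹ * (v * y) * x * y⁻¹ := by rw [hvy]
          _ = _ := by group
      have h6 := H.Tt_comm ht ha hb hab hh₀ hh
      rw [h1, h3, ← hh₀x]
      calc h * (h₀ * (x₀⁻¹ * (y * x₀ * y⁻¹)) * h₀⁻¹) * h⁻¹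
          = (h * h₀) * (x₀⁻¹ * (y * x₀ * y⁻¹)) * (h * h₀)⁻¹ := by group
        _ = (h₀ * h) * (x₀⁻¹ * (y * x₀ * y⁻¹)) * (h₀ * h)⁻¹ := by rw [h6]
        _ = _ := by group
  -- hence squaring is multiplicative and `U` is commutative
  obtain ⟨u, hu, w, hw, huw⟩ := hU.noncomm
  apply huw
  have h1 : (u * w) * (u * w) = (u * u) * (w * w) := by
    rw [hkey _ (mul_mem hu hw), hkey u hu, hkey w hw]
    have h2 := H.U_comm_V ht hU (inv_mem hw) (hf u hu)
    have h3 : (u * w)⁻¹ * (y * (u * w) * y⁻¹) =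
        (u⁻¹ * (y * u * y⁻¹)) * (w⁻¹ * (y * w * y⁻¹)) := by
      calc (u * w)⁻¹ * (y * (u * w) * y⁻¹)
          = (w⁻¹ * (u⁻¹ * (y * u * y⁻¹))) * (y * w * y⁻¹) := by group
        _ = ((u⁻¹ * (y * u * y⁻¹)) * w⁻¹) * (y * w * y⁻¹) := by rw [h2]
        _ = _ := by group
    rw [h3]; group
  have h2 : w * u = u * w := by
    have h3 : u * (w * u) * w = u * (u * w) * w := by
      calc u * (w * u) * w = (u * w) * (u * w) := by group
        _ = (u * u) * (w * w) := h1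
        _ = _ := by group
    exact mul_left_cancel (mul_right_cancel h3)
  have h3 : ⁅u, w⁆ = 1 := by
    rw [commutatorElement_eq_one_iff_mul_comm, h2]
  rw [h3]
  exact one_mem _

end Hyp

end Cfsg.Agent.AschCrit.CommFour
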