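import Mathlib
import Cfsg.Agent.AschCrit.CommFour.Cent

/-!
# Aschbacher's criterion, commutative case, Suzuki type: fixed points of a `p`-element

`card_fixed` : let `p` be a prime with `p ∣ 2 ^ m - 1 ↔ k ∣ m`.  A `p`-element fixing two points `a`, `b`
and not centralising `V_a` has `2` or `2 ^ k + 1` fixed points.
-/

set_option autoImplicit false

namespace Cfsg.Agent.AschCrit.CommFour

open Subgroup MulAction
open scoped commutatorElement
open Cfsg.Agent.TwoFusion.StronglyEmbeddedBasic Cfsg.Agent.AschCrit.Basic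
open Cfsg.Agent.AschCrit.Basic.Setup Cfsg.Agent.AschCrit.Closed Cfsg.Agent.AschCrit.Count

namespace Hyp

variable {G Ω : Type*} [Group G] [Finite G] [MulAction G Ω] {z : G} {k : ℕ} {t : G}

/-- a `p`-element fixing `a` and centralising some `v ∈ D_a` centralises `V_a` -/
theorem comm_V_of_comm (H : Hyp Ω z k) {p : ℕ} (hp : p.Prime)
    (hpk : ∀ m, p ∣ 2 ^ m - 1 ↔ k ∣ m) {a : Ω} {x v : G} (hxa : x • a = a)
    (hj : ∃ j, x ^ p ^ j = 1) (hv : v ∈ At z a) (hxv : Commute x v) :
    ∀ w ∈ H.V a, Commute x w := by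
  classical
  have hpf : Fact p.Prime := ⟨hp⟩
  obtain ⟨j, hj⟩ := hj
  have hconj : ∀ w : H.V a, x * w * x⁻¹ ∈ H.V a := fun w => H.V_conj_fix w.2 hxa
  let f : Function.End (H.V a) := fun w => ⟨x * w * x⁻¹, hconj w⟩
  have hf : ∀ n : ℕ, ∀ w : H.V a, (((f ^ n) w : H.V a) : G) = x ^ n * w * (x ^ n)⁻¹ := by
    intro n
    induction n with
    | zero =>
      intro w
      rw [pow_zero, pow_zero]
      show (w : G) = 1 * w * 1⁻¹
      group
    | succ n ih =>
      intro w
      rw [pow_succ']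
      show x * ((f ^ n) w : H.V a) * x⁻¹ = _
      rw [ih, pow_succ']
      group
  have hfp : f ^ p ^ j = 1 := by
    funext w
    apply Subtype.ext
    rw [hf, hj]
    show 1 * (w : G) * 1⁻¹ = w
    group
  have : Fintype (H.V a) := Fintype.ofFinite _
  have h1 := Equiv.Perm.card_fixedPoints_modEq hfp
  rw [← Nat.card_eq_fintype_card, H.card_V] at h1
  have h2 : Fintype.card (Function.fixedPoints f) =
      Nat.card (H.V a ⊓ centralizer {x} : Subgroup G) := by
    rw [← Nat.card_eq_fintype_card]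
    refine Nat.card_congr
      { toFun := fun w => ⟨w.1.1, w.1.2, ?_⟩
        invFun := fun w => ⟨⟨w.1, w.2.1⟩, ?_⟩
        left_inv := fun w => rfl
        right_inv := fun w => rfl }
    · have h3 : x * w.1.1 * x⁻¹ = w.1.1 := congrArg Subtype.val w.2
      refine mem_centralizer_singleton_iff.mpr ?_
      calc w.1.1 * x = (x * w.1.1 * x⁻¹) * x := by rw [h3]
        _ = x * w.1.1 := by group
    · have h3 := mem_centralizer_singleton_iff.mp w.2.2
      apply Subtype.ext
      show x * w.1 * x⁻¹ = w.1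
      rw [← h3]; group
  rw [h2] at h1
  have h3 : Nat.card (H.V a ⊓ centralizer {x} : Subgroup G) ∣ 2 ^ k := by
    rw [← H.card_V a]
    exact card_dvd_of_le inf_le_left
  obtain ⟨i, hik, hi⟩ := (Nat.dvd_prime_pow Nat.prime_two).mp h3
  have hvC : v ∈ (H.V a ⊓ centralizer {x} : Subgroup G) :=
    ⟨H.mem_V_of_at hv, mem_centralizer_singleton_iff.mpr hxv.symm.eq⟩
  have hv1 : v ≠ 1 := by
    rintro rfl
    have := H.setup.orderOf_eq hv.1
    rw [orderOf_one] at this
    omega
  have hi0 : i ≠ 0 := by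
    rintro rfl
    rw [pow_zero, card_eq_one] at hi
    rw [hi, mem_bot] at hvC
    exact hv1 hvC
  have hpk1 : p ∣ 2 ^ k - 1 := (hpk k).mpr dvd_rfl
  have hp2 : ¬ p ∣ 2 := by
    intro h
    have h4 : p ∣ 2 ^ k := dvd_pow h (by have := H.k3; omega)
    have h5 : p ∣ 2 ^ k - (2 ^ k - 1) := Nat.dvd_sub h4 hpk1
    have h6 : 2 ^ k - (2 ^ k - 1) = 1 := by have := H.q8; omega
    rw [h6] at h5
    exact hp.one_lt.ne' (Nat.dvd_one.mp h5)
  have hik' : i = k := by
    rw [hi] at h1
    have h4 : p ∣ 2 ^ k - 2 ^ i :=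
      (Nat.modEq_iff_dvd' (Nat.pow_le_pow_right (by norm_num) hik)).mp h1.symm
    have h5 : 2 ^ k - 2 ^ i = 2 ^ i * (2 ^ (k - i) - 1) := by
      rw [Nat.mul_sub, mul_one, ← pow_add]
      congr 2
      omega
    rw [h5] at h4
    have h6 : p ∣ 2 ^ (k - i) - 1 := by
      refine (Nat.Coprime.dvd_of_dvd_mul_left ?_ h4)
      apply Nat.Coprime.pow_right
      exact (Nat.Prime.coprime_iff_not_dvd hp).mpr hp2
    have h7 := (hpk _).mp h6
    have h8 : k - i = 0 := Nat.eq_zero_of_dvd_of_lt h7 (by omega)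
    omega
  rw [hik', ← H.card_V a] at hi
  have h4 : (H.V a ⊓ centralizer {x} : Subgroup G) = H.V a :=
    eq_of_le_of_card_ge inf_le_left (by rw [hi])
  intro w hw
  rw [← h4] at hw
  exact (mem_centralizer_singleton_iff.mp hw.2).symm

/-- a `p`-element fixing `a` and `b` lies in `T K` -/
theorem exists_eq_mul (H : Hyp Ω z k) (ht : Bad Ω t) {p : ℕ} (hp : p.Prime)
    (hpk : ∀ m, p ∣ 2 ^ m - 1 ↔ k ∣ m) {a b : Ω} (ha : t • a = a) (hb : t • b = b)
    (hab : a ≠ b) {y : G} (hya : y • a = a) (hyb : y • b = b) (hj : ∃ j, y ^ p ^ j = 1) :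
    ∃ h ∈ Tt z t a b, ∃ c ∈ Kt Ω t, y = h * c := by
  obtain ⟨v, hv⟩ := H.setup.nonempty_At a
  have hw : y * v * y⁻¹ ∈ At z a := by
    have := conj_mem_At y hv
    rwa [hya] at this
  obtain ⟨h, hh, hhv⟩ := H.torus_trans ht ha hb hab hv hw
  have hha : h⁻¹ • a = a := by rw [inv_smul_eq_iff]; exact hh.2.1.symm
  have hhb : h⁻¹ • b = b := by rw [inv_smul_eq_iff]; exact hh.2.2.symm
  obtain ⟨x, hx⟩ : ∃ x, x = h⁻¹ * y := ⟨_, rfl⟩
  have hxa : x • a = a := by rw [hx, mul_smul, hya, hha]
  have hxb : x • b = b := by rw [hx, mul_smul, hyb, hhb]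
  have hyx : y = h * x := by rw [hx]; group
  have hxv : Commute x v := by
    show x * v = v * x
    calc x * v = h⁻¹ * (y * v * y⁻¹) * h * (h⁻¹ * y) := by rw [hx]; group
      _ = h⁻¹ * (h * v * h⁻¹) * h * (h⁻¹ * y) := by rw [hhv]
      _ = v * x := by rw [hx]; group
  have hpa : ∀ m : ℕ, x ^ m • a = a := fun m =>
    (pow_mem (show x ∈ stabilizer G a from hxa) m : _ ∈ stabilizer G a)
  have hpb : ∀ m : ℕ, x ^ m • b = b := fun m =>
    (pow_mem (show x ∈ stabilizer G b from hxb) m : _ ∈ stabilizer G b)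
  have hpow : ∀ m : ℕ, ∃ τ ∈ Tt z t a b, y ^ m = τ * x ^ m := by
    intro m
    induction m with
    | zero => exact ⟨1, one_mem _, by simp⟩
    | succ m ih =>
      obtain ⟨τ, hτ, hym⟩ := ih
      refine ⟨τ * (x ^ m * h * (x ^ m)⁻¹), mul_mem hτ
        (H.conj_Tt ht ha hb hab (hpa m) (hpb m) hh), ?_⟩
      rw [pow_succ, hym, hyx, pow_succ]
      group
  obtain ⟨j, hj⟩ := hj
  have hxj : x ^ p ^ j = 1 := by
    obtain ⟨τ, hτ, h1⟩ := hpow (p ^ j)
    rw [hj] at h1
    have h2 : x ^ p ^ j = τ⁻¹ := (inv_eq_of_mul_eq_one_right h1.symm).symm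
    refine H.torus_eq_one ht ha hb hab hv (by rw [h2]; exact inv_mem hτ) (hxv.pow_left _)
  refine ⟨h, hh, x, ?_, hyx⟩
  exact H.mem_Kt_of_comm ht ha hb hab (H.comm_V_of_comm hp hpk hxa ⟨j, hxj⟩ hv hxv) hxb

/-- an element `≠ 1` of the torus is centralised in `L_t` by the torus only -/
theorem mem_Tt_of_commute (H : Hyp Ω z k) (ht : Bad Ω t) {a b : Ω} (ha : t • a = a)
    (hb : t • b = b) (hab : a ≠ b) {h : G} (hh : h ∈ Tt z t a b) (hh1 : h ≠ 1) {g : G}
    (hg : g ∈ Lt z t) (hgh : Commute g h) : g ∈ Tt z t a b := by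
  classical
  have := H.setup.finite_points
  have S := H.sz t ht
  -- `h` fixes only `a` and `b` in `Fix t`
  have hfix : ∀ c : Ω, t • c = c → h • c = c → c = a ∨ c = b := by
    intro c hc hhc
    by_contra hcon
    push Not at hcon
    exact hh1 (H.eq_one_of_Lt_Kt ht hh.1
      (S.three h hh.1 a b c ha hb hc hab (Ne.symm hcon.2) (Ne.symm hcon.1) hh.2.1 hh.2.2 hhc))
  have hga : g • a = a ∨ g • a = b := by
    refine hfix _ (H.Lt_smul hg ha) ?_
    rw [smul_smul, ← hgh.eq, mul_smul]
    exact congrArg _ hh.2.1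
  have hgb : g • b = a ∨ g • b = b := by
    refine hfix _ (H.Lt_smul hg hb) ?_
    rw [smul_smul, ← hgh.eq, mul_smul]
    exact congrArg _ hh.2.2
  rcases hga with hga | hga
  · refine ⟨hg, hga, ?_⟩
    rcases hgb with hgb | hgb
    · exact absurd (smul_left_cancel g (hga.trans hgb.symm)) hab
    · exact hgb
  exfalso
  have hgb' : g • b = a := by
    rcases hgb with hgb | hgb
    · exact hgb
    · exact absurd (smul_left_cancel g (hga.trans hgb.symm)) hab
  -- `g² ∈ T`
  have hg2 : g * g ∈ Tt z t a b := by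
    refine ⟨mul_mem hg hg, ?_, ?_⟩
    · show (g * g) • a = a
      rw [mul_smul, hga, hgb']
    · show (g * g) • b = b
      rw [mul_smul, hgb', hga]
  have hq : Odd (2 ^ k - 1) := by
    have h5 : Even (2 ^ k) := Nat.even_pow.mpr ⟨even_two, by have := H.k3; omega⟩
    exact Nat.Even.sub_odd (by have := H.q8; omega) h5 odd_one
  -- the involution `u = g ^ (q - 1)`
  obtain ⟨u, hu⟩ : ∃ u, u = g ^ (2 ^ k - 1) := ⟨_, rfl⟩
  have huL : u ∈ Lt z t := by rw [hu]; exact pow_mem hg _
  have huh : Commute u h := by rw [hu]; exact hgh.pow_left _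
  have huu : u * u = 1 := by
    have h1 : (⟨g * g, hg2⟩ : Tt z t a b) ^ Nat.card (Tt z t a b) = 1 := pow_card_eq_one'
    rw [H.card_Tt ht ha hb hab] at h1
    have h2 : (g * g) ^ (2 ^ k - 1) = 1 := congrArg Subtype.val h1
    rw [hu, ← (Commute.refl g).mul_pow, h2]
  have hua : u • a = b := by
    obtain ⟨m, hm⟩ := hq
    have h1 : u = g * (g * g) ^ m := by
      rw [hu, hm, ← pow_two, ← pow_mul, ← pow_succ']
    have h2 : (g * g) ^ m • a = a :=
      (pow_mem (show g * g ∈ stabilizer G a from hg2.2.1) m : _ ∈ stabilizer G a)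
    rw [h1, mul_smul, h2, hga]
  -- `u` fixes a point of `Fix t`
  obtain ⟨e, hte, hue⟩ : ∃ e : Ω, t • e = e ∧ u • e = e := by
    let F : {c : Ω // t • c = c} → {c : Ω // t • c = c} := fun c =>
      ⟨u • c.1, H.Lt_smul huL c.2⟩
    have hF : Function.Involutive F := by
      rintro ⟨c, hc⟩
      apply Subtype.ext
      show u • u • c = c
      rw [smul_smul, huu, one_smul]
    have hodd : Odd (Nat.card {c : Ω // t • c = c}) := by
      rw [H.cardFix t ht]
      have h5 : Even (2 ^ k) := Nat.even_pow.mpr ⟨even_two, by have := H.k3; omega⟩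
      exact Even.add_one (Nat.even_pow.mpr ⟨h5, by norm_num⟩)
    have h1 := odd_card_of_involutive hF hodd
    have h2 : 0 < Nat.card {c : {c : Ω // t • c = c} // F c = c} := h1.pos
    obtain ⟨⟨⟨e, he⟩, hFe⟩⟩ := (Nat.card_pos_iff.mp h2).1
    exact ⟨e, he, congrArg Subtype.val hFe⟩
  -- so `u ∈ D`
  obtain ⟨U, hU⟩ := S.unip e hte
  have huU : u ∈ U := by
    rw [H.mem_U_iff ht hte hU]
    refine ⟨huL, hue, ?_⟩
    have h5 : 2 ∣ (2 ^ k) ^ 2 :=
      dvd_pow (dvd_pow_self 2 (by have := H.k3; omega)) (by norm_num)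
    obtain ⟨m, hm⟩ := h5
    rw [hm, pow_mul, pow_two, huu, one_pow]
  have huV := H.mem_V_of_sq ht hte hU huU huu
  have hu1 : u ≠ 1 := by
    rintro rfl
    rw [one_smul] at hua
    exact hab hua
  have huD := H.mem_at huV hu1
  have hhe : h • e = e := H.setup.fix_of_commute huD.1 huh.symm huD.2
  rcases hfix e hte hhe with rfl | rfl
  · exact hab (hue.symm.trans hua)
  · have : u • a = u • e := by rw [hua, hue]
    exact hab (smul_left_cancel u this)

/-- A `p`-element fixing `a`, `b` and not centralising `V_a` has `2` or `2 ^ k + 1` fixed points. -/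
theorem card_fixed [Finite Ω] (H : Hyp Ω z k) {p : ℕ} (hp : p.Prime)
    (hpk : ∀ m, p ∣ 2 ^ m - 1 ↔ k ∣ m) {a b : Ω} (hab : a ≠ b) {y : G} (hya : y • a = a)
    (hyb : y • b = b) (hj : ∃ j, y ^ p ^ j = 1) (hyV : ¬ ∀ v ∈ H.V a, Commute y v) :
    Nat.card {c : Ω // y • c = c} = 2 ∨ Nat.card {c : Ω // y • c = c} = 2 ^ k + 1 := by
  classical
  obtain ⟨t, ht, ha, hb⟩ := H.exists_bad hab
  have S := H.sz t ht
  obtain ⟨h, hh, κ, hκ, hy⟩ := H.exists_eq_mul ht hp hpk ha hb hab hya hyb hj
  have hh1 : h ≠ 1 := by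
    rintro rfl
    apply hyV
    intro v hv
    rw [hy, one_mul]
    exact H.Kt_comm_V ht ha hv hκ
  -- fixed points in `Fix t`
  have hfix : ∀ c : Ω, t • c = c → y • c = c → c = a ∨ c = b := by
    intro c hc hyc
    by_contra hcon
    push Not at hcon
    have hhc : h • c = c := by
      rw [hy, mul_smul, hκ c hc] at hyc
      exact hyc
    exact hh1 (H.eq_one_of_Lt_Kt ht hh.1
      (S.three h hh.1 a b c ha hb hc hab (Ne.symm hcon.2) (Ne.symm hcon.1) hh.2.1 hh.2.2 hhc))
  have hset : Nat.card {c : Ω // y • c = c} = ({c : Ω | y • c = c} : Set Ω).ncard :=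
    Nat.card_coe_set_eq _
  by_cases hex : ∃ c₀ : Ω, t • c₀ ≠ c₀ ∧ y • c₀ = c₀
  · right
    obtain ⟨c₀, hc₀, hyc₀⟩ := hex
    have hyc₀' : y⁻¹ • c₀ = c₀ := by rw [inv_smul_eq_iff, hyc₀]
    have hS : ({c : Ω | y • c = c} : Set Ω) =
        {a, b} ∪ (fun g : G => g • c₀) '' (Tt z t a b : Set G) := by
      ext c
      simp only [Set.mem_ofPred_eq, Set.mem_union, Set.mem_insert_iff, Set.mem_singleton_iff,
        Set.mem_image, SetLike.mem_coe]
      constructor
      · intro hc
        by_cases htc : t • c = c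
        · exact Or.inl (hfix c htc hc)
        · right
          obtain ⟨g, hg, rfl⟩ := H.off_trans ht hc₀ htc
          refine ⟨g, ?_, rfl⟩
          have hyg : y * g * y⁻¹ ∈ Lt z t :=
            H.conj_Lt ht (fun c hc => H.smul_line ht ha hb hab hya hyb hc) hg
          have h1 : g⁻¹ * (y * g * y⁻¹) = 1 := by
            refine H.off_free ht hc₀ (mul_mem (inv_mem hg) hyg) ?_
            rw [mul_smul, mul_smul, mul_smul, hyc₀', hc, inv_smul_smul]
          have h2 : y * g = g * y := by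
            calc y * g = g * (g⁻¹ * (y * g * y⁻¹)) * y := by group
              _ = g * y := by rw [h1, mul_one]
          have h3 : Commute g h := by
            have h4 := (H.Kt_comm_Lt ht hκ hg).eq
            show g * h = h * g
            have h5 : (g * h) * κ = (h * g) * κ := by
              calc (g * h) * κ = g * y := by rw [hy]; group
                _ = y * g := h2.symm
                _ = h * (κ * g) := by rw [hy]; group
                _ = (h * g) * κ := by rw [h4]; group
            exact mul_right_cancel h5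
          exact H.mem_Tt_of_commute ht ha hb hab hh hh1 hg h3
      · rintro ((rfl | rfl) | ⟨g, hg, rfl⟩)
        · exact hya
        · exact hyb
        · have h4 := (H.Kt_comm_Lt ht hκ hg.1).eq
          have h5 := H.Tt_comm ht ha hb hab hg hh
          have h6 : y * g = g * y := by
            calc y * g = h * (κ * g) := by rw [hy]; group
              _ = (h * g) * κ := by rw [h4]; group
              _ = g * y := by rw [← h5, hy]; group
          rw [smul_smul, h6, mul_smul, hyc₀]
    have hinj : Set.InjOn (fun g : G => g • c₀) (Tt z t a b : Set G) := by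
      intro g hg g' hg' hgg
      have h1 : g'⁻¹ * g = 1 := by
        refine H.off_free ht hc₀ (mul_mem (inv_mem hg'.1) hg.1) ?_
        have h2 : g • c₀ = g' • c₀ := hgg
        rw [mul_smul, h2, inv_smul_smul]
      exact (inv_mul_eq_one.mp h1).symm
    have hdisj : Disjoint ({a, b} : Set Ω) ((fun g : G => g • c₀) '' (Tt z t a b : Set G)) := by
      rw [Set.disjoint_left]
      rintro c hc ⟨g, hg, rfl⟩
      have h1 : t • (g • c₀) = g • c₀ := by
        rcases hc with hc | hc
        · have hc' : g • c₀ = a := hc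
          rw [hc', ha]
        · have hc' : g • c₀ = b := hc
          rw [hc', hb]
      apply hc₀
      have h5 := H.Lt_smul (inv_mem hg.1) h1
      rwa [inv_smul_smul] at h5
    rw [hset, hS, Set.ncard_union_eq hdisj (Set.toFinite _) (Set.toFinite _),
      Set.ncard_pair hab, hinj.ncard_image]
    have h1 : (Tt z t a b : Set G).ncard = 2 ^ k - 1 := by
      rw [← Nat.card_coe_set_eq]
      exact H.card_Tt ht ha hb hab
    rw [h1]
    have := H.q8
    omega
  · left
    push Not at hex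
    have hS : ({c : Ω | y • c = c} : Set Ω) = {a, b} := by
      ext c
      simp only [Set.mem_ofPred_eq, Set.mem_insert_iff, Set.mem_singleton_iff]
      constructor
      · intro hc
        by_cases htc : t • c = c
        · exact hfix c htc hc
        · exact absurd hc (hex c htc)
      · rintro (rfl | rfl)
        · exact hya
        · exact hyb
    rw [hset, hS, Set.ncard_pair hab]

end Hyp

end Cfsg.Agent.AschCrit.CommFour
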