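import Mathlib
import Cfsg.Agent.AschCrit.CommFour.Cent
import Cfsg.Agent.AschCrit.CommFourArith
import Cfsg.Agent.AschCrit.CommFourEnd

/-!
# The order of `C_G(V_a)`
-/

set_option autoImplicit false

namespace Cfsg.Agent.AschCrit.CommFour

open Subgroup MulAction
open scoped commutatorElement
open Cfsg.Agent.TwoFusion.StronglyEmbeddedBasic Cfsg.Agent.AschCrit.Basic
open Cfsg.Agent.AschCrit.Basic.Setup Cfsg.Agent.AschCrit.Closed Cfsg.Agent.AschCrit.Count

section Generic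

variable {G Ω : Type*} [Group G] [MulAction G Ω]

/-- If the point stabilisers in `W` of the points of an invariant set `S` have the same order `s`,
then `|W|` divides `s |S|`. -/
theorem card_dvd_of_stab [Finite G] [Finite Ω] (W : Subgroup G) (S : Set Ω)
    (hinv : ∀ h ∈ W, ∀ c ∈ S, h • c ∈ S) (s : ℕ)
    (hs : ∀ c ∈ S, Nat.card (W ⊓ stabilizer G c : Subgroup G) = s) :
    Nat.card W ∣ s * Nat.card S := by
  classical
  let X : SubMulAction W Ω := ⟨S, fun h c hc => hinv h h.2 c hc⟩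
  have h1 := Nat.card_congr (sigmaFixedByEquivOrbitsProdGroup W X)
  have h2 : Nat.card (Σ g : W, fixedBy X g) = s * Nat.card S := by
    have e : (Σ g : W, fixedBy X g) ≃ Σ x : X, stabilizer W x :=
      { toFun := fun p => ⟨p.2.1, ⟨p.1, p.2.2⟩⟩
        invFun := fun p => ⟨p.2.1, ⟨p.1, p.2.2⟩⟩
        left_inv := fun _ => rfl
        right_inv := fun _ => rfl }
    rw [Nat.card_congr e]
    have : Fintype X := Fintype.ofFinite X
    rw [Nat.card_sigma, Finset.sum_congr rfl (g := fun _ => s)]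
    · rw [Finset.sum_const, Finset.card_univ, smul_eq_mul, ← Nat.card_eq_fintype_card, mul_comm]
      rfl
    · intro x _
      rw [← hs x.1 x.2]
      refine Nat.card_congr
        { toFun := fun g => ⟨g.1.1, g.1.2, congrArg Subtype.val g.2⟩
          invFun := fun g => ⟨⟨g.1, g.2.1⟩, Subtype.ext g.2.2⟩
          left_inv := fun _ => rfl
          right_inv := fun _ => rfl }
  rw [h2, Nat.card_prod] at h1
  exact ⟨_, by rw [h1, mul_comm]⟩

/-- a subgroup acting freely on an invariant set -/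
theorem card_dvd_of_free [Finite G] [Finite Ω] (W : Subgroup G) (S : Set Ω)
    (hinv : ∀ h ∈ W, ∀ c ∈ S, h • c ∈ S) (hfree : ∀ h ∈ W, ∀ c ∈ S, h • c = c → h = 1) :
    Nat.card W ∣ Nat.card S := by
  have h := card_dvd_of_stab W S hinv 1 (by
    intro c hc
    rw [Nat.card_eq_one_iff_unique]
    refine ⟨⟨fun x y => ?_⟩, ⟨1⟩⟩
    apply Subtype.ext
    rw [hfree x x.2.1 c hc x.2.2, hfree y y.2.1 c hc y.2.2])
  rwa [one_mul] at h

end Generic

namespace Hyp

variable {G Ω : Type*} [Group G] [Finite G] [MulAction G Ω] {z : G} {k : ℕ} {t : G}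

/-- the centraliser of `V_a` -/
def CV (H : Hyp Ω z k) (a : Ω) : Subgroup G := centralizer (H.V a : Set G)

theorem mem_CV (H : Hyp Ω z k) {a : Ω} {g : G} : g ∈ H.CV a ↔ ∀ v ∈ H.V a, Commute g v := by
  rw [CV, mem_centralizer_iff]
  exact ⟨fun h v hv => (h v hv).symm, fun h v hv => (h v hv).symm⟩

theorem CV_le (H : Hyp Ω z k) (a : Ω) : H.CV a ≤ stabilizer G a := by
  intro y hy
  obtain ⟨v₀, hv₀⟩ := H.setup.nonempty_At a
  exact H.setup.fix_of_commute hv₀.1 (H.mem_CV.mp hy v₀ (H.mem_V_of_at hv₀)) hv₀.2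

theorem CV_conj (H : Hyp Ω z k) {a : Ω} {g y : G} (hg : g • a = a) (hy : y ∈ H.CV a) :
    g * y * g⁻¹ ∈ H.CV a := by
  rw [mem_CV] at hy ⊢
  intro v hv
  have hg' : g⁻¹ • a = a := by rw [inv_smul_eq_iff, hg]
  have h1 := H.V_conj_fix hv hg'
  rw [inv_inv] at h1
  have h2 := (hy _ h1).eq
  show g * y * g⁻¹ * v = v * (g * y * g⁻¹)
  calc g * y * g⁻¹ * v = g * (y * (g⁻¹ * v * g)) * g⁻¹ := by group
    _ = g * ((g⁻¹ * v * g) * y) * g⁻¹ := by rw [h2]
    _ = _ := by group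

theorem CV_normalizer (H : Hyp Ω z k) (a : Ω) :
    stabilizer G a ≤ normalizer (H.CV a : Set G) := by
  intro g hg
  rw [mem_normalizer_iff]
  intro y
  constructor
  · exact fun hy => H.CV_conj hg hy
  · intro hy
    have hg' : g⁻¹ • a = a := by rw [inv_smul_eq_iff]; exact (show g • a = a from hg).symm
    have h1 := H.CV_conj hg' hy
    have h2 : g⁻¹ * (g * y * g⁻¹) * g⁻¹⁻¹ = y := by group
    rwa [h2] at h1

theorem CV_inf (H : Hyp Ω z k) (ht : Bad Ω t) {a b : Ω} (ha : t • a = a) (hb : t • b = b)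
    (hab : a ≠ b) : H.CV a ⊓ stabilizer G b = Kt Ω t := by
  apply le_antisymm
  · rintro y ⟨hy, hyb⟩
    exact H.mem_Kt_of_comm ht ha hb hab (H.mem_CV.mp hy) hyb
  · intro y hy
    exact ⟨H.mem_CV.mpr fun v hv => H.Kt_comm_V ht ha hv hy, hy b hb⟩

/-- the stabilisers in `C_G(V_a)` of the points different from `a` have the same order -/
theorem card_CV_stab (H : Hyp Ω z k) {a b c : Ω} (hab : a ≠ b) (hac : a ≠ c) :
    Nat.card (H.CV a ⊓ stabilizer G c : Subgroup G) =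
      Nat.card (H.CV a ⊓ stabilizer G b : Subgroup G) := by
  obtain ⟨g, hga, hgb⟩ := H.two a b a c hab hac
  have hga' : g⁻¹ • a = a := by rw [inv_smul_eq_iff, hga]
  have hgc' : g⁻¹ • c = b := by rw [inv_smul_eq_iff, hgb]
  refine Nat.card_congr
    { toFun := fun x => ⟨g⁻¹ * x.1 * g, ?_, ?_⟩
      invFun := fun x => ⟨g * x.1 * g⁻¹, ?_, ?_⟩
      left_inv := fun x => by apply Subtype.ext; group
      right_inv := fun x => by apply Subtype.ext; group }
  · have := H.CV_conj hga' x.2.1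
    rwa [inv_inv] at this
  · show (g⁻¹ * x.1 * g) • b = b
    rw [mul_smul, mul_smul, hgb, show x.1 • c = c from x.2.2, hgc']
  · exact H.CV_conj hga x.2.1
  · show (g * x.1 * g⁻¹) • c = c
    rw [mul_smul, mul_smul, hgc', show x.1 • b = b from x.2.2, hgb]

/-- the torus acts freely on the points different from `a`, `b` -/
theorem torus_free (H : Hyp Ω z k) (ht : Bad Ω t) {a b c : Ω} (ha : t • a = a) (hb : t • b = b)
    (hab : a ≠ b) (hca : c ≠ a) (hcb : c ≠ b) {h : G} (hh : h ∈ Tt z t a b) (hc : h • c = c) :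
    h = 1 := by
  by_cases htc : t • c = c
  · exact H.eq_one_of_Lt_Kt ht hh.1 ((H.sz t ht).three h hh.1 a b c ha hb htc hab (Ne.symm hcb)
      (Ne.symm hca) hh.2.1 hh.2.2 hc)
  · exact H.off_free ht htc hh.1 hc

/-- `U` acts freely on the points different from `a` -/
theorem U_free (H : Hyp Ω z k) (ht : Bad Ω t) {a c : Ω} {U : Subgroup G} (hU : IsU z t a U)
    (hca : c ≠ a) {u : G} (hu : u ∈ U) (hc : u • c = c) : u = 1 := by
  by_cases htc : t • c = c
  · exact H.eq_one_of_Lt_Kt ht (hU.le hu) (hU.free u hu c htc hca hc)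
  · exact H.off_free ht htc (hU.le hu) hc

theorem U_le_CV (H : Hyp Ω z k) (ht : Bad Ω t) {a : Ω} {U : Subgroup G} (hU : IsU z t a U) :
    U ≤ H.CV a := by
  intro u hu
  rw [mem_CV]
  intro v hv
  exact H.U_comm_V ht hU hu hv

/-- `|C_{V_a}(x)| = 2 ^ i` with `r ∣ 2 ^ (k - i) - 1` for an `r`-element `x` of `G_a` -/
theorem card_cent_V (H : Hyp Ω z k) {a : Ω} {x : G} (hxa : x • a = a) {r j : ℕ} (hr : r.Prime)
    (hr2 : r ≠ 2) (hx : x ^ r ^ j = 1) :
    ∃ i ≤ k, Nat.card (H.V a ⊓ centralizer {x} : Subgroup G) = 2 ^ i ∧ r ∣ 2 ^ (k - i) - 1 := by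
  classical
  obtain ⟨i, hik, hi⟩ : ∃ i ≤ k, Nat.card (H.V a ⊓ centralizer {x} : Subgroup G) = 2 ^ i := by
    rw [← Nat.dvd_prime_pow Nat.prime_two, ← H.card_V a]
    exact card_dvd_of_le inf_le_left
  refine ⟨i, hik, hi, ?_⟩
  have hx' : (ConjAct.toConjAct x) ^ r ^ j = 1 := by
    rw [← map_pow, hx, map_one]
  have h1 := CommFourEnd.card_modEq (Ω := G) hr hx' (H.V a : Set G) (by
    intro c hc
    rw [ConjAct.toConjAct_smul]
    exact H.V_conj_fix hc hxa)
  have h2 : Nat.card {c : G // c ∈ (H.V a : Set G) ∧ ConjAct.toConjAct x • c = c} = 2 ^ i := by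
    rw [← hi]
    refine Nat.card_congr (Equiv.subtypeEquivRight fun c => ?_)
    rw [ConjAct.toConjAct_smul, mem_inf, mem_centralizer_singleton_iff]
    refine and_congr Iff.rfl ?_
    constructor
    · intro h
      calc c * x = (x * c * x⁻¹) * x := by rw [h]
        _ = x * c := by group
    · intro h
      rw [← h]; group
  have h3 : Nat.card (H.V a : Set G) = 2 ^ k := H.card_V a
  rw [h2, h3] at h1
  have h4 : r ∣ 2 ^ k - 2 ^ i :=
    (Nat.modEq_iff_dvd' (Nat.pow_le_pow_right (by norm_num) hik)).mp h1.symm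
  have h5 : 2 ^ k - 2 ^ i = 2 ^ i * (2 ^ (k - i) - 1) := by
    rw [Nat.mul_sub, mul_one, ← pow_add, Nat.add_sub_cancel' hik]
  rw [h5] at h4
  rcases hr.dvd_mul.mp h4 with h6 | h6
  · exact absurd ((Nat.prime_dvd_prime_iff_eq hr Nat.prime_two).mp (hr.dvd_of_dvd_pow h6)) hr2
  · exact h6

theorem mem_CV_of_card (H : Hyp Ω z k) {a : Ω} {x : G}
    (h : Nat.card (H.V a ⊓ centralizer {x} : Subgroup G) = 2 ^ k) : x ∈ H.CV a := by
  have h1 : H.V a ⊓ centralizer {x} = H.V a :=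
    eq_of_le_of_card_ge inf_le_left (by rw [h, H.card_V a])
  rw [mem_CV]
  intro v hv
  rw [← h1, mem_inf, mem_centralizer_singleton_iff] at hv
  exact hv.2.symm

theorem card_ne (H : Hyp Ω z k) (a : Ω) : Nat.card {c : Ω | c ≠ a} =
    (2 ^ k) ^ 3 * ((2 ^ k) ^ 2 - 2 ^ k + 1) := by
  classical
  have := H.setup.finite_points
  have h1 : (Set.univ : Set Ω) = insert a {c : Ω | c ≠ a} := by
    ext c
    rw [Set.mem_insert_iff]
    exact ⟨fun _ => em _, fun _ => Set.mem_univ c⟩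
  have h2 : Nat.card Ω = (Set.univ : Set Ω).ncard := (Set.ncard_univ Ω).symm
  have h3 : a ∉ {c : Ω | c ≠ a} := fun h => h rfl
  rw [h1, Set.ncard_insert_of_notMem h3 (Set.toFinite _), H.cardPts] at h2
  rw [Nat.card_coe_set_eq]
  omega

/-- the `C_G(V_a)`-orbit of `b` -/
def Orb (H : Hyp Ω z k) (a b : Ω) : Set Ω := {c : Ω | ∃ g ∈ H.CV a, g • b = c}

section Orb

variable {a b : Ω}

theorem Orb_ne (H : Hyp Ω z k) (hab : a ≠ b) {c : Ω} (hc : c ∈ H.Orb a b) : c ≠ a := by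
  obtain ⟨g, hg, rfl⟩ := hc
  intro h
  apply hab
  have h1 : g • a = a := H.CV_le a hg
  exact smul_left_cancel g (h1.trans h.symm)

theorem card_CV (H : Hyp Ω z k) (ht : Bad Ω t) (ha : t • a = a) (hb : t • b = b)
    (hab : a ≠ b) : Nat.card (H.CV a) = Nat.card (H.Orb a b) * Nat.card (Kt Ω t) := by
  rw [← H.CV_inf ht ha hb hab]
  refine card_eq_mul_card_stab (H.CV a) (H.Orb a b) ⟨1, one_mem _, one_smul G b⟩ ?_ ?_
  · rintro h hh c ⟨g, hg, rfl⟩
    exact ⟨h * g, mul_mem hh hg, mul_smul h g b⟩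
  · intro c hc
    exact hc

theorem card_Orb_dvd (H : Hyp Ω z k) (ht : Bad Ω t) (ha : t • a = a) (hb : t • b = b)
    (hab : a ≠ b) :
    Nat.card (H.Orb a b) ∣ (2 ^ k) ^ 3 * ((2 ^ k) ^ 2 - 2 ^ k + 1) := by
  have := H.setup.finite_points
  have h1 := card_dvd_of_stab (H.CV a) {c : Ω | c ≠ a} (by
    intro h hh c hc h1
    have h2 : h • a = a := H.CV_le a hh
    exact hc (smul_left_cancel h (h1.trans h2.symm))) (Nat.card (Kt Ω t)) (by
    intro c hc
    rw [← H.CV_inf ht ha hb hab]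
    exact H.card_CV_stab hab (Ne.symm hc))
  rw [H.card_CV ht ha hb hab, H.card_ne a, mul_comm (Nat.card (H.Orb a b))] at h1
  exact Nat.dvd_of_mul_dvd_mul_left Nat.card_pos h1

theorem sq_dvd_card_Orb (H : Hyp Ω z k) (ht : Bad Ω t) (ha : t • a = a) (hab : a ≠ b) :
    (2 ^ k) ^ 2 ∣ Nat.card (H.Orb a b) := by
  have := H.setup.finite_points
  obtain ⟨U, hU⟩ := (H.sz t ht).unip a ha
  rw [← H.card_U' ht ha hU]
  refine card_dvd_of_free U (H.Orb a b) ?_ ?_
  · rintro h hh c ⟨g, hg, rfl⟩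
    exact ⟨h * g, mul_mem (H.U_le_CV ht hU hh) hg, mul_smul h g b⟩
  · intro u hu c hc huc
    exact H.U_free ht hU (H.Orb_ne hab hc) hu huc

theorem card_Orb_modEq (H : Hyp Ω z k) (ht : Bad Ω t) (ha : t • a = a) (hb : t • b = b)
    (hab : a ≠ b) : Nat.card (H.Orb a b) ≡ 1 [MOD 2 ^ k - 1] := by
  classical
  have := H.setup.finite_points
  have h1 : Nat.card (Tt z t a b) ∣ Nat.card {c : Ω | c ∈ H.Orb a b ∧ c ≠ b} := by
    refine card_dvd_of_free _ _ ?_ ?_
    · rintro h hh c ⟨⟨g, hg, rfl⟩, hgb⟩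
      have hhb : h • b = b := hh.2.2
      have hhb' : h⁻¹ • b = b := by rw [inv_smul_eq_iff, hhb]
      refine ⟨⟨h * g * h⁻¹, H.CV_conj hh.2.1 hg, ?_⟩, ?_⟩
      · rw [mul_smul, mul_smul, hhb']
      · intro h2
        exact hgb (smul_left_cancel h (h2.trans hhb.symm))
    · rintro h hh c ⟨hc, hcb⟩ hhc
      exact H.torus_free ht ha hb hab (H.Orb_ne hab hc) hcb hh hhc
  rw [H.card_Tt ht ha hb hab] at h1
  have h2 : H.Orb a b = insert b {c : Ω | c ∈ H.Orb a b ∧ c ≠ b} := by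
    ext c
    rw [Set.mem_insert_iff]
    constructor
    · intro hc
      by_cases hcb : c = b
      · exact Or.inl hcb
      · exact Or.inr ⟨hc, hcb⟩
    · rintro (rfl | hc)
      · exact ⟨1, one_mem _, one_smul G c⟩
      · exact hc.1
  have h3 : Nat.card (H.Orb a b) = Nat.card {c : Ω | c ∈ H.Orb a b ∧ c ≠ b} + 1 := by
    rw [Nat.card_coe_set_eq, Nat.card_coe_set_eq,
      ← Set.ncard_insert_of_notMem (a := b) (fun h => h.2 rfl) (Set.toFinite _), ← h2]
  rw [h3]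
  have h4 := (Nat.modEq_zero_iff_dvd).mpr h1
  simpa using h4.add_right 1

/-- a prime `r` with `ord_r(2) = 6k` dividing `q² - q + 1` divides the size of the orbit -/
theorem prime_dvd_card_Orb (H : Hyp Ω z k) (ht : Bad Ω t) (ha : t • a = a) (hb : t • b = b)
    (hab : a ≠ b) {r : ℕ} (hr : r.Prime) (hr2 : r ≠ 2)
    (hrN : r ∣ (2 ^ k) ^ 2 - 2 ^ k + 1) (hrk : ∀ m, r ∣ 2 ^ m - 1 ↔ 6 * k ∣ m) :
    r ∣ Nat.card (H.Orb a b) := by
  classical
  have := H.setup.finite_points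
  have hfr : Fact r.Prime := ⟨hr⟩
  have hk3 := H.k3
  -- `r` divides `|G_a|`
  have h1 : Nat.card (stabilizer G a) = Nat.card {c : Ω | c ≠ a} *
      Nat.card (stabilizer G a ⊓ stabilizer G b : Subgroup G) := by
    refine card_eq_mul_card_stab (stabilizer G a) {c : Ω | c ≠ a} (Ne.symm hab) ?_ ?_
    · intro h hh c hc h1
      have h2 : h • a = a := hh
      exact hc (smul_left_cancel h (h1.trans h2.symm))
    · intro c hc
      obtain ⟨g, hga, hgb⟩ := H.two a b a c hab (Ne.symm hc)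
      exact ⟨g, hga, hgb⟩
  have h2 : r ∣ Nat.card (stabilizer G a) := by
    rw [h1, H.card_ne a]
    exact Dvd.dvd.mul_right (Dvd.dvd.mul_left hrN _) _
  obtain ⟨R⟩ : Nonempty (Sylow r (stabilizer G a)) := inferInstance
  have hR : (R : Subgroup (stabilizer G a)).map (stabilizer G a).subtype ≤ H.CV a := by
    rintro _ ⟨x, hx, rfl⟩
    obtain ⟨j, hj⟩ := R.isPGroup' ⟨x, hx⟩
    have hj' : (x : G) ^ r ^ j = 1 := by
      have := congrArg (fun x : R => ((x : stabilizer G a) : G)) hj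
      simpa using this
    obtain ⟨i, hik, hi, hri⟩ := H.card_cent_V (show (x : G) • a = a from x.2) hr hr2 hj'
    rw [hrk] at hri
    have hki : k - i = 0 := by
      rcases Nat.eq_zero_or_pos (k - i) with h | h
      · exact h
      · have := Nat.le_of_dvd h hri
        omega
    refine H.mem_CV_of_card ?_
    rw [show (stabilizer G a).subtype x = (x : G) from rfl, hi]
    congr 1
    omega
  have h3 : r ∣ Nat.card (R : Subgroup (stabilizer G a)) := by
    rw [R.card_eq_multiplicity]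
    refine dvd_pow_self r ?_
    intro h
    have h4 := hr.factorization_pos_of_dvd Nat.card_pos.ne' h2
    omega
  have h4 : r ∣ Nat.card (H.CV a) := by
    refine h3.trans ?_
    have h5 : Nat.card ((R : Subgroup (stabilizer G a)).map (stabilizer G a).subtype) =
        Nat.card (R : Subgroup (stabilizer G a)) :=
      card_map_of_injective (stabilizer G a).subtype_injective
    rw [← h5]
    exact card_dvd_of_le hR
  rw [H.card_CV ht ha hb hab] at h4
  rcases hr.dvd_mul.mp h4 with h5 | h5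
  · exact h5
  · exact absurd h5 (H.not_dvd_Kt ht hr
      (fun h => hr2 ((Nat.prime_dvd_prime_iff_eq hr Nat.prime_two).mp h)) hrN)

/-- the size of the orbit is `q² N` or `q³ N`, `N = q² - q + 1` -/
theorem card_Orb (H : Hyp Ω z k) (ht : Bad Ω t) (ha : t • a = a) (hb : t • b = b)
    (hab : a ≠ b) : Nat.card (H.Orb a b) = (2 ^ k) ^ 2 * ((2 ^ k) ^ 2 - 2 ^ k + 1) ∨
      Nat.card (H.Orb a b) = (2 ^ k) ^ 2 * (2 ^ k * ((2 ^ k) ^ 2 - 2 ^ k + 1)) := by
  have hk3 := H.k3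
  obtain ⟨r, hr, hr2, hrN, hrk⟩ := CommFourArith.exists_prime_six (k := k) (by omega)
  obtain ⟨l, hl⟩ := H.sq_dvd_card_Orb ht ha (b := b) hab
  have h1 := H.card_Orb_dvd ht ha hb hab
  have h2 := H.card_Orb_modEq ht ha hb hab
  have h3 := H.prime_dvd_card_Orb ht ha hb hab hr hr2 hrN hrk
  rw [hl] at h1 h2 h3
  have hq := H.q_pos
  have h4 : l ∣ 2 ^ k * ((2 ^ k) ^ 2 - 2 ^ k + 1) := by
    rw [show (2 ^ k) ^ 3 * ((2 ^ k) ^ 2 - 2 ^ k + 1) =
      (2 ^ k) ^ 2 * (2 ^ k * ((2 ^ k) ^ 2 - 2 ^ k + 1)) by ring] at h1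
    exact Nat.dvd_of_mul_dvd_mul_left (by positivity) h1
  have h5 : l ≡ 1 [MOD 2 ^ k - 1] := by
    have h6 : 2 ^ k ≡ 1 [MOD 2 ^ k - 1] :=
      ((Nat.modEq_iff_dvd' hq).mpr dvd_rfl).symm
    have h7 : (2 ^ k) ^ 2 * l ≡ 1 * l [MOD 2 ^ k - 1] := by
      simpa using (h6.pow 2).mul_right l
    rw [one_mul] at h7
    exact h7.symm.trans h2
  have h6 : r ∣ l := by
    rcases hr.dvd_mul.mp h3 with h7 | h7
    · exact absurd ((Nat.prime_dvd_prime_iff_eq hr Nat.prime_two).mp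
        (hr.dvd_of_dvd_pow (hr.dvd_of_dvd_pow h7))) hr2
    · exact h7
  rw [hl]
  rcases CommFourArith.eq_of_prime (by omega) h4 h5 hr hr2 h6 with h7 | h7
  · left; rw [h7]
  · right; rw [h7]

theorem three_dvd_card_CV (H : Hyp Ω z k) (a : Ω) : 3 ∣ Nat.card (H.CV a) := by
  obtain ⟨t₀, ht₀⟩ := H.bad
  obtain ⟨b, -, hba⟩ := H.exists_ne ht₀ a
  obtain ⟨t, ht, ha, hb⟩ := H.exists_bad (Ne.symm hba)
  rw [H.card_CV ht ha hb (Ne.symm hba)]
  have h3 := CommFourArith.three_dvd H.oddk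
  rcases H.card_Orb ht ha hb (Ne.symm hba) with h | h <;> rw [h]
  · exact Dvd.dvd.mul_right (Dvd.dvd.mul_left h3 _) _
  · exact Dvd.dvd.mul_right (Dvd.dvd.mul_left (Dvd.dvd.mul_left h3 _) _) _

theorem not_nine_dvd_card_CV (H : Hyp Ω z k) (a : Ω) : ¬ 9 ∣ Nat.card (H.CV a) := by
  obtain ⟨t₀, ht₀⟩ := H.bad
  obtain ⟨b, -, hba⟩ := H.exists_ne ht₀ a
  obtain ⟨t, ht, ha, hb⟩ := H.exists_bad (Ne.symm hba)
  rw [H.card_CV ht ha hb (Ne.symm hba)]
  have h3 := CommFourArith.three_dvd H.oddk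
  have h9 := CommFourArith.not_nine_dvd H.oddk
  intro h
  have h1 : ¬ 3 ∣ Nat.card (Kt Ω t) := H.not_dvd_Kt ht Nat.prime_three (by norm_num) h3
  have h2 : Nat.Coprime 9 (Nat.card (Kt Ω t)) := by
    rw [show 9 = 3 ^ 2 by norm_num]
    exact ((Nat.Prime.coprime_iff_not_dvd Nat.prime_three).mpr h1).pow_left 2
  have h4 : ∀ n, Nat.Coprime 9 ((2 ^ k) ^ n) := by
    intro n
    rw [← pow_mul]
    exact Nat.Coprime.pow_right _ (by norm_num)
  have h5 := h2.dvd_of_dvd_mul_right h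
  apply h9
  rcases H.card_Orb ht ha hb (Ne.symm hba) with h6 | h6 <;> rw [h6] at h5
  · exact (h4 2).dvd_of_dvd_mul_left h5
  · have h7 := (h4 2).dvd_of_dvd_mul_left h5
    have h8 : Nat.Coprime 9 (2 ^ k) := by simpa using h4 1
    exact h8.dvd_of_dvd_mul_left h7

/-- `p ∣ |G_a : C_G(V_a)|` for `p ∣ q - 1` -/
theorem dvd_relIndex_CV (H : Hyp Ω z k) (a : Ω) {p : ℕ} (hp : p.Prime) (hpq : p ∣ 2 ^ k - 1) :
    p ∣ (H.CV a).relIndex (stabilizer G a) := by
  classical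
  have hfp : Fact p.Prime := ⟨hp⟩
  obtain ⟨t₀, ht₀⟩ := H.bad
  obtain ⟨b, -, hba⟩ := H.exists_ne ht₀ a
  obtain ⟨t, ht, ha, hb⟩ := H.exists_bad (Ne.symm hba)
  obtain ⟨x, hx⟩ := exists_prime_orderOf_dvd_card' (G := Tt z t a b) p (by
    rw [H.card_Tt ht ha hb (Ne.symm hba)]; exact hpq)
  have hx' : orderOf (x : G) = p := by rw [orderOf_coe]; exact hx
  have hn : ((H.CV a).subgroupOf (stabilizer G a)).Normal := ⟨fun n hn g => by
    rw [mem_subgroupOf] at hn ⊢
    exact H.CV_conj g.2 hn⟩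
  by_contra hcon
  have h1 := ((H.CV a).subgroupOf (stabilizer G a)).pow_index_mem ⟨x.1, x.2.2.1⟩
  rw [mem_subgroupOf] at h1
  have h2 : (x : G) ^ (H.CV a).relIndex (stabilizer G a) ∈ H.CV a := h1
  have hcop : (orderOf (x : G)).Coprime ((H.CV a).relIndex (stabilizer G a)) := by
    rw [hx']; exact (Nat.Prime.coprime_iff_not_dvd hp).mpr hcon
  obtain ⟨m, hm⟩ := exists_pow_eq_self_of_coprime hcop.symm
  have h3 : (x : G) ∈ H.CV a := by
    rw [← hm]; exact pow_mem h2 m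
  obtain ⟨v, hv⟩ := H.setup.nonempty_At a
  have h4 := H.torus_eq_one ht ha hb (Ne.symm hba) hv x.2
    (H.mem_CV.mp h3 v (H.mem_V_of_at hv))
  rw [h4, orderOf_one] at hx'
  exact hp.one_lt.ne hx'

/-- elements of order `3` of `C_G(V_a)` fix only `a` -/
theorem fix_of_order_three (H : Hyp Ω z k) {w : G} (hw : w ∈ H.CV a) (hw3 : orderOf w = 3)
    (hwb : w • b = b) : b = a := by
  by_contra hba
  obtain ⟨t, ht, ha, hb⟩ := H.exists_bad (Ne.symm hba)
  have h1 : w ∈ Kt Ω t := by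
    rw [← H.CV_inf ht ha hb (Ne.symm hba)]
    exact ⟨hw, hwb⟩
  have h3 := CommFourArith.three_dvd H.oddk
  have h2 : ¬ 3 ∣ Nat.card (Kt Ω t) := H.not_dvd_Kt ht Nat.prime_three (by norm_num) h3
  apply h2
  rw [← hw3]
  exact (Kt Ω t).orderOf_dvd_natCard h1

end Orb

end Hyp

end Cfsg.Agent.AschCrit.CommFour
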