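import Mathlib
import Cfsg.Agent.AschCrit.CommFour.Orbits
import Cfsg.Agent.AschCrit.CommFour.Fixed

/-!
# Aschbacher's criterion, commutative case, Suzuki type: the contradiction
-/

set_option autoImplicit false

namespace Cfsg.Agent.AschCrit.CommFour

open Subgroup MulAction
open Cfsg.Agent.TwoFusion.StronglyEmbeddedBasic Cfsg.Agent.AschCrit.Basic
open Cfsg.Agent.AschCrit.Basic.Setup Cfsg.Agent.AschCrit.Closed Cfsg.Agent.AschCrit.Count

variable {G Ω : Type*} [Group G] [Finite G] [MulAction G Ω] {z : G} {k : ℕ}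

theorem Hyp.false_of (H : Hyp Ω z k)
    (hfix : ∀ p : ℕ, p.Prime → (∀ m, p ∣ 2 ^ m - 1 ↔ k ∣ m) → ∀ a b : Ω, a ≠ b → ∀ y : G,
      y • a = a → y • b = b → (∃ j, y ^ p ^ j = 1) → (¬ ∀ v ∈ H.V a, Commute y v) →
      Nat.card {c : Ω // y • c = c} = 2 ∨ Nat.card {c : Ω // y • c = c} = 2 ^ k + 1) : False := by
  have := H.setup.finite_points
  have hk3 := H.k3
  obtain ⟨t₀, -, a, -⟩ := H.bad
  obtain ⟨p, hp, hp2, hpq, hpk⟩ := CommFourArith.exists_prime_k H.oddk H.k3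
  have hq3 : 2 ^ k % 3 = 2 := by
    obtain ⟨m, hm⟩ := H.oddk
    rw [hm, pow_succ, pow_mul, Nat.mul_mod, Nat.pow_mod]
    norm_num
  have hqe : Even (2 ^ k) := (Nat.even_pow.mpr ⟨even_two, by omega⟩)
  refine CommFourEnd.end_false (q := 2 ^ k) (p := p) (a := a) (W := H.CV a) hq3 hqe hp hpq ?_
    (H.CV_le a) (H.CV_normalizer a) (H.three_dvd_card_CV a) (H.not_nine_dvd_card_CV a)
    (H.dvd_relIndex_CV a hp hpq) ?_ ?_
  · rw [H.cardPts, add_comm]
  · intro w hw hw3 b hwb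
    exact H.fix_of_order_three hw hw3 hwb
  · intro y hya hyW hj b hba hyb
    exact hfix p hp hpk a b (Ne.symm hba) y hya hyb hj (fun h => hyW (H.mem_CV.mpr h))

/-- **Case (C4).** -/
theorem Hyp.false (H : Hyp Ω z k) : False := by
  have := H.setup.finite_points
  exact H.false_of fun p hp hpk a b hab y hya hyb hj hyV =>
    H.card_fixed hp hpk hab hya hyb hj hyV

end Cfsg.Agent.AschCrit.CommFour
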