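import Cfsg.Agent.AschCrit.CommFour.AdapterHyp
import Cfsg.Agent.AschCrit.CommFour.Final

/-!
# Aschbacher's criterion, commutative case, Suzuki type: it does not occur
-/

set_option autoImplicit false

universe u

namespace Cfsg.Agent.AschCrit.CommFour.CaseFour

open Cfsg.Agent.TwoFusion.StronglyEmbeddedBasic Cfsg.Agent.AschCrit.Basic
open Cfsg.Agent.AschCrit.Basic.Setup Cfsg.Agent.AschCrit.CommCase

/-- **Case (c4)** -/
theorem case_four (G Ω : Type u) [Group G] [Finite G] [MulAction G Ω] (z : G) (k : ℕ)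
    (hC : CaseHyp G Ω z k 2) (hat : ∀ a : Ω, Nat.card (At z a) + 1 = 2 ^ k)
    (hΩ : Nat.card Ω = (2 ^ k) ^ 3 * (2 ^ k * (2 ^ k - 1) + 1) + 1) : False :=
  (AdapterHyp.hyp hC hat hΩ).false

end Cfsg.Agent.AschCrit.CommFour.CaseFour
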