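import Mathlib
import Cfsg.Agent.AschCrit.BGroup
import Cfsg.Agent.AschCrit.CommFour.Base

/-!
# Two points lie in the fixed points set of one line only

`line_of_bgroups` : the field `line` of `CommFour.Hyp` from the inductive theorem.
-/

set_option autoImplicit false

namespace Cfsg.Agent.AschCrit.CommFour

open Subgroup MulAction
open Cfsg.Agent.TwoFusion.StronglyEmbeddedBasic Cfsg.Agent.AschCrit.Basic
open Cfsg.Agent.AschCrit.Basic.Setup Cfsg.Agent.AschCrit.Closed Cfsg.Agent.AschCrit.Count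
open Cfsg.Agent.AschCrit.Descent Cfsg.Agent.AschCrit.BGroup

variable {G Ω : Type*} [Group G] [Finite G] [MulAction G Ω] {z : G} {k : ℕ} {t : G}

theorem exists_sylTwo (X V : Subgroup G) (hVX : V ≤ X) (hV : IsPGroup 2 V) :
    ∃ P : Subgroup G, SylTwo X P ∧ V ≤ P := by
  have hf2 : Fact (Nat.Prime 2) := ⟨Nat.prime_two⟩
  have h1 : IsPGroup 2 (V.subgroupOf X) := hV.of_equiv (subgroupOfEquivOfLe hVX).symm
  obtain ⟨P₀, hP₀⟩ := h1.exists_le_sylow
  refine ⟨(P₀ : Subgroup X).map X.subtype, ⟨map_subtype_le _, P₀.isPGroup'.map _, ?_⟩, ?_⟩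
  · have h1 : ((P₀ : Subgroup X).map X.subtype).relIndex X = (P₀ : Subgroup X).index := by
      have h2 : ((P₀ : Subgroup X).map X.subtype).subgroupOf X = (P₀ : Subgroup X) :=
        comap_map_eq_self_of_injective X.subtype_injective _
      rw [relIndex, h2]
    rw [h1]
    exact P₀.not_dvd_index
  · intro v hv
    exact ⟨⟨v, hVX hv⟩, hP₀ (mem_subgroupOf.mpr hv), rfl⟩

/-- the order of `L_t` -/
theorem card_Lt_of (hcent : ∀ g ∈ Lt z t, Commute g t)
    (hΩ : Finite Ω) (ht : Bad Ω t) (hfix : Nat.card {c : Ω // t • c = c} = (2 ^ k) ^ 2 + 1)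
    (S : SzLine Ω z t k) : Nat.card (Lt z t) =
      ((2 ^ k) ^ 2 + 1) * ((2 ^ k) ^ 2 * ((2 ^ k - 1) * Nat.card (Zt Ω z t))) := by
  classical
  obtain ⟨-, a, b, hab, ha, hb⟩ := id ht
  have hsm : ∀ g ∈ Lt z t, ∀ c : Ω, t • c = c → t • (g • c) = g • c := by
    intro g hg c hc
    rw [smul_smul, ← (hcent g hg).eq, mul_smul, hc]
  have hline : Nat.card {c : Ω | t • c = c ∧ c ≠ a} = (2 ^ k) ^ 2 := by
    have h2 : Nat.card {a : Ω // t • a = a} = ({c : Ω | t • c = c} : Set Ω).ncard :=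
      Nat.card_coe_set_eq _
    have h3 : ({c : Ω | t • c = c} : Set Ω) = insert a {c : Ω | t • c = c ∧ c ≠ a} := by
      ext c
      rw [Set.mem_insert_iff]
      constructor
      · intro hc
        by_cases hca : c = a
        · exact Or.inl hca
        · exact Or.inr ⟨hc, hca⟩
      · rintro (rfl | hc)
        · exact ha
        · exact hc.1
    rw [h3, Set.ncard_insert_of_notMem (fun h => h.2 rfl) (Set.toFinite _)] at h2
    rw [Nat.card_coe_set_eq]
    omega
  rw [card_eq_mul_card_stab (Lt z t) {c : Ω | t • c = c} (b := a) ha]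
  · have h1 : Nat.card {c : Ω | t • c = c} = (2 ^ k) ^ 2 + 1 := hfix
    rw [h1, card_eq_mul_card_stab (Lt z t ⊓ stabilizer G a) {c : Ω | t • c = c ∧ c ≠ a} (b := b)
      ⟨hb, Ne.symm hab⟩, hline, inf_assoc, S.card_torus a b ha hb hab]
    · intro g hg c hc
      refine ⟨hsm g hg.1 c hc.1, fun h => hc.2 ?_⟩
      exact smul_left_cancel g (h.trans (show g • a = a from hg.2).symm)
    · intro c hc
      obtain ⟨g, hg, hga, hgb⟩ := S.two a b a c ha hb ha hc.1 hab (Ne.symm hc.2)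
      exact ⟨g, ⟨hg, hga⟩, hgb⟩
  · intro g hg c hc
    exact hsm g hg c hc
  · intro c hc
    obtain ⟨d, hd, hdc⟩ : ∃ d : Ω, t • d = d ∧ d ≠ c := by
      by_cases h : a = c
      · exact ⟨b, hb, fun h' => hab (h.trans h'.symm)⟩
      · exact ⟨a, ha, h⟩
    obtain ⟨g, hg, hga, -⟩ := S.two a b c d ha hb hc hd hab (Ne.symm hdc)
    exact ⟨g, hg, hga⟩

theorem fix_eq_pts (h : Setup G Ω z) (hf : ∀ g : G, (∀ a : Ω, g • a = a) → g = 1)
    (hcomm : ∀ a : Ω, ∀ d ∈ At z a, ∀ e ∈ At z a, Commute d e)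
    (hT : ∀ H : Subgroup G, H ≠ ⊤ → DSub Ω z H → ∃ k i, BGroup Ω z H k i)
    (hk : Odd k) (hk3 : 3 ≤ k) (hat : ∀ a : Ω, Nat.card (At z a) + 1 = 2 ^ k)
    (hcent : ∀ t : G, Bad Ω t → ∀ a : Ω, t • a = a → ∀ d ∈ At z a, Commute d t)
    (ht : Bad Ω t) (hfix : Nat.card {c : Ω // t • c = c} = (2 ^ k) ^ 2 + 1)
    (S : SzLine Ω z t k) {a b : Ω} (hab : a ≠ b) (ha : t • a = a) (hb : t • b = b) (c : Ω) :
    t • c = c ↔ c ∈ pts Ω z (closure (At z a ∪ At z b)) := by
  classical
  have hfin := h.finite_points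
  have hf2 : Fact (Nat.Prime 2) := ⟨Nat.prime_two⟩
  set X : Subgroup G := closure (At z a ∪ At z b) with hX
  have haX : ∀ d ∈ At z a, d ∈ X := fun d hd => subset_closure (Or.inl hd)
  have hbX : ∀ d ∈ At z b, d ∈ X := fun d hd => subset_closure (Or.inr hd)
  have hq8 : 8 ≤ 2 ^ k := by
    calc 8 = 2 ^ 3 := by norm_num
      _ ≤ 2 ^ k := Nat.pow_le_pow_right (by norm_num) hk3
  -- `X ≤ L_t ≤ C(t)`
  have hXL : X ≤ Lt z t := by
    rw [hX, closure_le]
    rintro d (hd | hd)
    · exact subset_closure ⟨hd.1, hcent t ht a ha d hd⟩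
    · exact subset_closure ⟨hd.1, hcent t ht b hb d hd⟩
  have hLc : ∀ g ∈ Lt z t, Commute g t := by
    have h1 : Lt z t ≤ centralizer {t} := by
      rw [Lt, closure_le]
      rintro d ⟨-, hd⟩
      rw [SetLike.mem_coe, mem_centralizer_singleton_iff]
      exact hd.eq
    intro g hg
    have := h1 hg
    rw [mem_centralizer_singleton_iff] at this
    exact this
  have hne : X ≠ ⊤ := by
    intro htop
    apply ht.ne_one
    apply hf
    intro c
    obtain ⟨d, hd⟩ := h.nonempty_At c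
    have hdX : d ∈ X := by rw [htop]; exact mem_top d
    exact h.fix_of_commute hd.1 (hLc d (hXL hdX)).symm hd.2
  obtain ⟨a₀, ha₀⟩ := h.nonempty_At a
  obtain ⟨b₀, hb₀⟩ := h.nonempty_At b
  have haP : a ∈ pts Ω z X := mem_pts.mpr ⟨a₀, haX _ ha₀, ha₀⟩
  have hbP : b ∈ pts Ω z X := mem_pts.mpr ⟨b₀, hbX _ hb₀, hb₀⟩
  have hD : DSub Ω z X := by
    refine ⟨⟨a, b, hab, haP, hbP⟩, ?_⟩
    have h1 : 1 < Nat.card (At z a) := by have := hat a; omega
    obtain ⟨x, y, hxy⟩ := Finite.one_lt_card_iff_nontrivial.mp h1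
    exact ⟨x.1, y.1, haX _ x.2, haX _ y.2, x.2.1, y.2.1, hcomm a _ x.2 _ y.2,
      fun hh => hxy (Subtype.ext hh)⟩
  obtain ⟨k', i, B⟩ := hT X hne hD
  -- `k' = k`
  have hkk : k' = k := by
    let V : Subgroup G := closure (At z a)
    have hVc : ∀ x ∈ V, ∀ y ∈ V, x * y = y * x := by
      have h1 : V ≤ centralizer (V : Set G) := by
        rw [closure_le]
        intro d hd
        rw [SetLike.mem_coe, mem_centralizer_iff]
        have h2 : V ≤ centralizer {d} := by
          rw [closure_le]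
          intro e he
          rw [SetLike.mem_coe, mem_centralizer_singleton_iff]
          exact (hcomm a e he d hd).eq
        intro x hx
        have := h2 hx
        rwa [mem_centralizer_singleton_iff] at this
      intro x hx y hy
      have := h1 hy
      rw [mem_centralizer_iff] at this
      exact this x hx
    have hV2 : IsPGroup 2 V := by
      have h1 : ∀ x ∈ V, x * x = 1 := by
        intro x hx
        induction hx using closure_induction with
        | mem d hd => exact h.mul_self hd.1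
        | one => rw [mul_one]
        | mul x y hx hy ihx ihy =>
          have h3 := hVc y hy x hx
          calc x * y * (x * y) = x * (y * x) * y := by group
            _ = x * (x * y) * y := by rw [h3]
            _ = (x * x) * (y * y) := by group
            _ = 1 := by rw [ihx, ihy, one_mul]
        | inv x hx ih =>
          rw [← mul_inv_rev, ih, inv_one]
      intro x
      refine ⟨1, Subtype.ext ?_⟩
      show (x : G) ^ 2 ^ 1 = 1
      rw [pow_one, pow_two]
      exact h1 x x.2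
    have hVX : V ≤ X := by
      rw [closure_le]; exact fun d hd => haX d hd
    obtain ⟨P, hP, hVP⟩ := exists_sylTwo X V hVX hV2
    have h1 := B.card_sylow P hP
    have h2 : Nat.card {d : G // d ∈ P ∧ IsConj z d} = Nat.card (At z a) := by
      refine Nat.card_congr (Equiv.subtypeEquivRight fun d => ?_)
      constructor
      · rintro ⟨hdP, hd⟩
        refine ⟨hd, ?_⟩
        have h3 := B.comm P hP.1 hP.2.1 d hdP a₀ (hVP (subset_closure ha₀)) hd ha₀.1
        exact h.fix_of_commute ha₀.1 h3 ha₀.2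
      · intro hd
        exact ⟨hVP (subset_closure hd), hd.1⟩
    rw [h2, hat a] at h1
    exact (Nat.pow_right_injective (le_refl 2) h1).symm
  subst hkk
  have hsub : ∀ c : Ω, c ∈ pts Ω z X → t • c = c := by
    intro c hc
    obtain ⟨d, hdX, hd⟩ := mem_pts.mp hc
    exact h.fix_of_commute hd.1 (hLc d (hXL hdX)).symm hd.2
  let f : pts Ω z X → {c : Ω // t • c = c} := fun c => ⟨c.1, hsub c.1 c.2⟩
  have hfi : Function.Injective f := fun c d hcd =>
    Subtype.ext (congrArg (fun x : {c : Ω // t • c = c} => (x : Ω)) hcd)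
  have hle : Nat.card (pts Ω z X) ≤ Nat.card {c : Ω // t • c = c} :=
    Nat.card_le_card_of_injective f hfi
  rw [B.card_pts, hfix] at hle
  have hi2 : i ≤ 2 := by
    by_contra hcon
    have h1 : (2 ^ k') ^ 2 < (2 ^ k') ^ i := Nat.pow_lt_pow_right (by omega) (by omega)
    omega
  have hi1 : i ≠ 1 := by
    intro hi
    have hq3 : 2 ^ k' % 3 = 2 := by
      obtain ⟨m, hm⟩ := hk
      rw [hm, pow_succ, pow_mul, Nat.mul_mod, Nat.pow_mod]
      norm_num
    -- `q + 1` divides `|X : X ∩ K|`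
    have hXZ : X ⊓ Kt Ω t = X ⊓ Zt Ω z t := by
      apply le_antisymm
      · intro x hx
        exact ⟨hx.1, hXL hx.1, hx.2⟩
      · intro x hx
        exact ⟨hx.1, hx.2.2⟩
    have h1 : Nat.card X = (2 ^ k' + 1) * Nat.card (X ⊓ stabilizer G a : Subgroup G) := by
      rw [card_eq_mul_card_stab X (pts Ω z X : Set Ω) (b := a) haP]
      · have h2 : Nat.card ((pts Ω z X : SubMulAction X Ω) : Set Ω) = 2 ^ k' + 1 := by
          have h3 := B.card_pts
          rw [hi, pow_one] at h3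
          exact h3
        rw [h2]
      · intro x hx c hc
        obtain ⟨d, hdX, hd⟩ := mem_pts.mp hc
        exact mem_pts.mpr ⟨x * d * x⁻¹, X.mul_mem (X.mul_mem hx hdX) (X.inv_mem hx),
          conj_mem_At x hd⟩
      · intro c hc
        obtain ⟨d, hd, hdc⟩ : ∃ d : Ω, d ∈ pts Ω z X ∧ d ≠ c := by
          by_cases h : a = c
          · exact ⟨b, hbP, fun h' => hab (h.trans h'.symm)⟩
          · exact ⟨a, haP, h⟩
        obtain ⟨g, hg, hga, -⟩ := B.two_trans a b c d haP hbP hc hd hab (Ne.symm hdc)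
        exact ⟨g, hg, hga⟩
    have h2 : Nat.card (X ⊓ Zt Ω z t : Subgroup G) ∣
        Nat.card (X ⊓ stabilizer G a : Subgroup G) := by
      apply card_dvd_of_le
      intro x hx
      exact ⟨hx.1, hx.2.2 a ha⟩
    have hn : ((Zt Ω z t).subgroupOf (Lt z t)).Normal := by
      refine ⟨fun n hn g => ?_⟩
      rw [mem_subgroupOf] at hn ⊢
      refine ⟨(g * n * g⁻¹).2, ?_⟩
      intro c hc
      have h5 : t • ((g : G)⁻¹ • c) = (g : G)⁻¹ • c := by
        rw [smul_smul, ← ((hLc g g.2).inv_left).eq, mul_smul, hc]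
      show ((g : G) * n * (g : G)⁻¹) • c = c
      rw [mul_smul, mul_smul, hn.2 _ h5, smul_inv_smul]
    have h3 : (Zt Ω z t).relIndex X ∣ (Zt Ω z t).relIndex (Lt z t) := by
      have h4 : ((Zt Ω z t).subgroupOf (Lt z t)).relIndex (X.subgroupOf (Lt z t)) =
          (Zt Ω z t).relIndex X := relIndex_subgroupOf hXL
      rw [← h4]
      exact relIndex_dvd_index_of_normal _ _
    have h4 : Nat.card (Zt Ω z t) * (Zt Ω z t).relIndex (Lt z t) = Nat.card (Lt z t) :=
      Odd.card_mul_relIndex' inf_le_left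
    have h5 : Nat.card (X ⊓ Zt Ω z t : Subgroup G) * (Zt Ω z t).relIndex X = Nat.card X := by
      rw [← inf_relIndex_left X (Zt Ω z t)]
      exact Odd.card_mul_relIndex' inf_le_left
    have h6 : (Zt Ω z t).relIndex (Lt z t) = ((2 ^ k') ^ 2 + 1) * ((2 ^ k') ^ 2 * (2 ^ k' - 1)) := by
      rw [card_Lt_of hLc hfin ht hfix S] at h4
      apply Nat.eq_of_mul_eq_mul_left (Nat.card_pos (α := Zt Ω z t))
      rw [h4]; ring
    have h7 : (2 ^ k' + 1) ∣ (Zt Ω z t).relIndex X := by
      obtain ⟨m, hm⟩ := h2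
      rw [h1, hm] at h5
      refine ⟨m, ?_⟩
      apply Nat.eq_of_mul_eq_mul_left (Nat.card_pos (α := (X ⊓ Zt Ω z t : Subgroup G)))
      rw [h5]; ring
    have h8 : 3 ∣ 2 ^ k' + 1 := by omega
    have h9 : 3 ∣ ((2 ^ k') ^ 2 + 1) * ((2 ^ k') ^ 2 * (2 ^ k' - 1)) := by
      rw [← h6]; exact (h8.trans h7).trans h3
    have hp3 := Nat.prime_three
    rcases hp3.dvd_mul.mp h9 with h10 | h10
    · have h11 : ((2 ^ k') ^ 2 + 1) % 3 = 2 := by
        rw [Nat.add_mod, Nat.pow_mod, hq3]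
      omega
    · rcases hp3.dvd_mul.mp h10 with h11 | h11
      · have := hp3.dvd_of_dvd_pow (hp3.dvd_of_dvd_pow h11)
        omega
      · omega
  have hi : i = 2 := by
    have := B.one_le
    omega
  subst hi
  constructor
  · intro hc
    have hbij : Function.Bijective f :=
      (Nat.bijective_iff_injective_and_card f).mpr ⟨hfi, by rw [B.card_pts, hfix]⟩
    obtain ⟨x, hx⟩ := hbij.2 ⟨c, hc⟩
    have h1 : (x : Ω) = c := congrArg (fun y : {c : Ω // t • c = c} => (y : Ω)) hx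
    rw [← h1]
    exact x.2
  · exact hsub c

/-- the field `line` -/
theorem line_of_bgroups (h : Setup G Ω z) (hf : ∀ g : G, (∀ a : Ω, g • a = a) → g = 1)
    (hcomm : ∀ a : Ω, ∀ d ∈ At z a, ∀ e ∈ At z a, Commute d e)
    (hT : ∀ H : Subgroup G, H ≠ ⊤ → DSub Ω z H → ∃ k i, BGroup Ω z H k i)
    (hk : Odd k) (hk3 : 3 ≤ k) (hat : ∀ a : Ω, Nat.card (At z a) + 1 = 2 ^ k)
    (hcent : ∀ t : G, Bad Ω t → ∀ a : Ω, t • a = a → ∀ d ∈ At z a, Commute d t)
    (hfix : ∀ t : G, Bad Ω t → Nat.card {c : Ω // t • c = c} = (2 ^ k) ^ 2 + 1)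
    (hsz : ∀ t : G, Bad Ω t → SzLine Ω z t k) :
    ∀ t t' : G, Bad Ω t → Bad Ω t' → ∀ a b : Ω, a ≠ b → t • a = a → t • b = b →
      t' • a = a → t' • b = b → ∀ c : Ω, t • c = c → t' • c = c := by
  intro t t' ht ht' a b hab ha hb ha' hb' c hc
  rw [fix_eq_pts h hf hcomm hT hk hk3 hat hcent ht (hfix t ht) (hsz t ht) hab ha hb] at hc
  rw [fix_eq_pts h hf hcomm hT hk hk3 hat hcent ht' (hfix t' ht') (hsz t' ht') hab ha' hb']
  exact hc

end Cfsg.Agent.AschCrit.CommFour
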