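import Mathlib
import Cfsg.Agent.AschCrit.CommFour.Line

/-!
# The hypotheses of case (C4) from the common frame
-/

set_option autoImplicit false

namespace Cfsg.Agent.AschCrit.CommFour

open Subgroup MulAction
open Cfsg.Agent.TwoFusion.StronglyEmbeddedBasic Cfsg.Agent.AschCrit.Basic
open Cfsg.Agent.AschCrit.Basic.Setup Cfsg.Agent.AschCrit.Closed Cfsg.Agent.AschCrit.Count
open Cfsg.Agent.AschCrit.Descent Cfsg.Agent.AschCrit.BGroup

variable {G Ω : Type*} [Group G] [Finite G] [MulAction G Ω] {z : G} {k : ℕ}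

/-- a bad involution centralising `q - 1` elements of `D_a` centralises `D_a` -/
theorem commute_of_card_atC {t : G} {a : Ω} (hat : Nat.card (At z a) + 1 = 2 ^ k)
    (hatC : Nat.card (AtC z t a) + 1 = 2 ^ k) : ∀ d ∈ At z a, Commute d t := by
  have h1 : AtC z t a = At z a := by
    apply Set.eq_of_subset_of_ncard_le
    · intro d hd; exact hd.1
    · rw [← Nat.card_coe_set_eq, ← Nat.card_coe_set_eq]
      omega
    · exact Set.toFinite _
  intro d hd
  rw [← h1] at hd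
  exact hd.2

theorem mkHyp (h : Setup G Ω z) (hf : ∀ g : G, (∀ a : Ω, g • a = a) → g = 1)
    (hcomm : ∀ a : Ω, ∀ d ∈ At z a, ∀ e ∈ At z a, Commute d e)
    (htwo : ∀ a b c d : Ω, a ≠ b → c ≠ d → ∃ g : G, g • a = c ∧ g • b = d)
    (hT : ∀ H : Subgroup G, H ≠ ⊤ → DSub Ω z H → ∃ k i, BGroup Ω z H k i)
    (hk : Odd k) (hk3 : 3 ≤ k) (hat : ∀ a : Ω, Nat.card (At z a) + 1 = 2 ^ k)
    (hΩ : Nat.card Ω = (2 ^ k) ^ 3 * (2 ^ k * (2 ^ k - 1) + 1) + 1)
    (hbad : ∃ t : G, Bad Ω t)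
    (hfix : ∀ t : G, Bad Ω t → Nat.card {c : Ω // t • c = c} = (2 ^ k) ^ 2 + 1)
    (hatC : ∀ t : G, Bad Ω t → ∀ c : Ω, t • c = c → Nat.card (AtC z t c) + 1 = 2 ^ k)
    (hsz : ∀ t : G, Bad Ω t → SzLine Ω z t k) : Hyp Ω z k where
  setup := h
  faith := hf
  comm := hcomm
  two := htwo
  oddk := hk
  k3 := hk3
  cardAt := hat
  cent := fun t ht a ha => commute_of_card_atC (hat a) (hatC t ht a ha)
  cardFix := hfix
  cardPts := by
    rw [hΩ, add_comm]
    congr 3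
    have : 1 ≤ 2 ^ k := Nat.one_le_two_pow
    rw [Nat.mul_sub, mul_one, pow_two]
  bad := hbad
  line := line_of_bgroups h hf hcomm hT hk hk3 hat
    (fun t ht a ha => commute_of_card_atC (hat a) (hatC t ht a ha)) hfix hsz
  sz := hsz

end Cfsg.Agent.AschCrit.CommFour
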